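import Mathlib
import Groth.Prelude.Def_CycDet

/-!
# The determinant of a finite length module: spans, lengths, the line property
-/

set_option autoImplicit false

universe u v w

namespace Groth.Agent.CycDetLib

open CycDet IsLocalRing

variable {R : Type u} [CommRing R] [IsLocalRing R] {M : Type v} [AddCommGroup M] [Module R M]

/-- A function on admissible tuples satisfying the three determinant rules. -/
structure IsDet {l : ℕ} {N : Type w} [AddCommGroup N] [Module (ResidueField R) N] (ψ : Adm R M l → N) : Prop where
  zero : ∀ (e : Adm R M l) (a : Fin l), e.1 a ∈ spanBefore R M e.1 a → ψ e = 0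
  scale : ∀ (e e' : Adm R M l) (a : Fin l) (c : Rˣ), (∀ j, j ≠ a → e.1 j = e'.1 j) →
      e.1 a - (c : R) • e'.1 a ∈ spanBefore R M e.1 a → ψ e = residue R (c : R) • ψ e'
  swap : ∀ (e e' : Adm R M l) (a b : Fin l), (b : ℕ) + 1 = (a : ℕ) →
      (∀ r ∈ maximalIdeal R, r • e.1 a ∈ spanBefore R M e.1 b) →
      e'.1 = e.1 ∘ Equiv.swap a b → ψ e + ψ e' = 0

/-- The linear map on the determinant induced by a determinant function. -/
noncomputable def IsDet.lift {l : ℕ} {N : Type w} [AddCommGroup N] [Module (ResidueField R) N]
    {ψ : Adm R M l → N} (h : IsDet ψ) : DetOfLen R M l →ₗ[ResidueField R] N :=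
  (Submodule.span (ResidueField R) (relSet R M l)).liftQ (Finsupp.linearCombination _ ψ) <| by
    rw [Submodule.span_le]
    intro x hx
    rcases hx with (⟨e, a, h1, rfl⟩ | ⟨e, e', a, c, h1, h2, rfl⟩) | ⟨e, e', a, b, h1, h2, h3, rfl⟩
    · simp [sym, h.zero e a h1]
    · simp [sym, h.scale e e' a c h1 h2]
    · simp [sym, h.swap e e' a b h1 h2 h3]

theorem IsDet.lift_mk {l : ℕ} {N : Type w} [AddCommGroup N] [Module (ResidueField R) N]
    {ψ : Adm R M l → N} (h : IsDet ψ) (e : Adm R M l) : h.lift (Submodule.Quotient.mk (sym R M e)) = ψ e := by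
  unfold IsDet.lift
  rw [Submodule.liftQ_apply]
  simp [sym]

theorem isDet_mk (l : ℕ) :
    IsDet (fun e : Adm R M l => (Submodule.Quotient.mk (sym R M e) : DetOfLen R M l)) where
  zero e a h := (Submodule.Quotient.mk_eq_zero _).mpr (Submodule.subset_span (Or.inl (Or.inl ⟨e, a, h, rfl⟩)))
  scale e e' a c h1 h2 := by
    rw [← Submodule.Quotient.mk_smul, Submodule.Quotient.eq]
    exact Submodule.subset_span (Or.inl (Or.inr ⟨e, e', a, c, h1, h2, rfl⟩))
  swap e e' a b h1 h2 h3 := by
    show Submodule.Quotient.mk (sym R M e) + Submodule.Quotient.mk (sym R M e') = 0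
    rw [← Submodule.Quotient.mk_add, Submodule.Quotient.mk_eq_zero]
    exact Submodule.subset_span (Or.inr ⟨e, e', a, b, h1, h2, h3, rfl⟩)

theorem IsDet.comp {l : ℕ} {N : Type w} [AddCommGroup N] [Module (ResidueField R) N]
    {ψ : Adm R M l → N} (h : IsDet ψ) {N' : Type*} [AddCommGroup N'] [Module (ResidueField R) N']
    (g : N →ₗ[ResidueField R] N') : IsDet (fun e => g (ψ e)) where
  zero e a ha := by show g (ψ e) = 0; rw [h.zero e a ha, map_zero]
  scale e e' a c h1 h2 := by show g (ψ e) = _; rw [h.scale e e' a c h1 h2, map_smul]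
  swap e e' a b h1 h2 h3 := by show g (ψ e) + g (ψ e') = 0; rw [← map_add, h.swap e e' a b h1 h2 h3, map_zero]

section spanBefore

variable {l : ℕ} (e : Fin l → M)

theorem spanBefore_mono {i i' : ℕ} (h : i ≤ i') : spanBefore R M e i ≤ spanBefore R M e i' :=
  Submodule.span_mono (Set.image_mono fun _ (hj : _ < i) => lt_of_lt_of_le hj h)

theorem mem_spanBefore {j : Fin l} {i : ℕ} (h : (j : ℕ) < i) : e j ∈ spanBefore R M e i :=
  Submodule.subset_span ⟨j, h, rfl⟩

theorem spanBefore_zero : spanBefore R M e 0 = ⊥ := by
  simp [spanBefore]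

theorem spanBefore_top : spanBefore R M e l = Submodule.span R (Set.range e) := by
  simp [spanBefore, Set.image_univ]

theorem spanBefore_of_ge {i : ℕ} (h : l ≤ i) : spanBefore R M e i = Submodule.span R (Set.range e) := by
  rw [← spanBefore_top]
  refine le_antisymm (Submodule.span_mono (Set.image_mono fun j _ => j.isLt)) (spanBefore_mono e h)

theorem spanBefore_succ (j : Fin l) :
    spanBefore R M e ((j : ℕ) + 1) = spanBefore R M e j ⊔ R ∙ e j := by
  rw [spanBefore, spanBefore, ← Submodule.span_union, show {i : Fin l | (i : ℕ) < (j : ℕ) + 1} = insert j {i : Fin l | (i : ℕ) < (j : ℕ)} by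
    ext i; simp only [Set.mem_ofPred_eq, Set.mem_insert_iff, Fin.ext_iff]; omega, Set.image_insert_eq, Set.union_singleton]

theorem spanBefore_congr {e e' : Fin l → M} {i : ℕ} (h : ∀ j : Fin l, (j : ℕ) < i → e j = e' j) :
    spanBefore R M e i = spanBefore R M e' i := by
  exact congrArg (Submodule.span R) (Set.image_congr fun j hj => h j hj)

end spanBefore

/-- A tuple is strict if no entry lies in the span of the earlier ones. -/
def Strict {l : ℕ} (e : Fin l → M) : Prop :=
  ∀ i : Fin l, e i ∉ spanBefore R M e i

theorem IsDet.eq_zero {l : ℕ} {N : Type w} [AddCommGroup N] [Module (ResidueField R) N]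
    {ψ : Adm R M l → N} (h : IsDet ψ) (e : Adm R M l) (he : ¬ Strict (R := R) e.1) : ψ e = 0 := by
  rw [Strict] at he; push Not at he
  obtain ⟨a, ha⟩ := he
  exact h.zero e a ha

theorem residue_ne_zero (c : Rˣ) : residue R (c : R) ≠ 0 :=
  (c.isUnit.map (residue R)).ne_zero

theorem isUnit_of_smul_notMem {N : Submodule R M} {y : M} (hy : ∀ r ∈ maximalIdeal R, r • y ∈ N) {r : R}
    (h : r • y ∉ N) : IsUnit r := by
  by_contra hr
  exact h (hy r ((mem_maximalIdeal r).mpr hr))

/-- Adjoining one element killed by the maximal ideal modulo `N` raises the length by one. -/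
theorem length_sup_span {N : Submodule R M} {y : M} (hy : ∀ r ∈ maximalIdeal R, r • y ∈ N) (hyN : y ∉ N) :
    Module.length R ↥(N ⊔ R ∙ y) = Module.length R ↥N + 1 := by
  set P := N ⊔ R ∙ y
  have hyP : y ∈ P := Submodule.mem_sup_right (Submodule.mem_span_singleton_self y)
  let N' : Submodule R P := N.comap P.subtype
  let q : R →ₗ[R] (↥P ⧸ N') := LinearMap.toSpanSingleton R _ (Submodule.Quotient.mk (⟨y, hyP⟩ : P))
  have hker : LinearMap.ker q = maximalIdeal R := by
    ext r
    rw [LinearMap.mem_ker, LinearMap.toSpanSingleton_apply, ← Submodule.Quotient.mk_smul, Submodule.Quotient.mk_eq_zero]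
    refine ⟨fun h => (mem_maximalIdeal r).mpr fun hr => hyN ?_, fun h => hy r h⟩
    exact (Submodule.smul_mem_iff_of_isUnit N hr).mp h
  have hsurj : Function.Surjective q := by
    intro z
    obtain ⟨⟨z, hz⟩, rfl⟩ := Submodule.Quotient.mk_surjective _ z
    obtain ⟨n, hn, w, hw, rfl⟩ := Submodule.mem_sup.mp hz
    obtain ⟨r, rfl⟩ := Submodule.mem_span_singleton.mp hw
    refine ⟨r, ?_⟩
    rw [LinearMap.toSpanSingleton_apply, ← Submodule.Quotient.mk_smul, Submodule.Quotient.eq]
    show r • y - (n + r • y) ∈ N
    simpa using hn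
  haveI : IsSimpleModule R (R ⧸ maximalIdeal R) :=
    isSimpleModule_iff_isCoatom.mpr (maximalIdeal.isMaximal R).out
  have h1 : Module.length R (↥P ⧸ N') = 1 := by
    have e := (Submodule.quotEquivOfEq _ _ hker.symm).trans (LinearMap.quotKerEquivOfSurjective q hsurj)
    rw [← e.length_eq, Module.length_eq_one]
  rw [Module.length_eq_add_of_exact N'.subtype N'.mkQ (Submodule.injective_subtype N')
    (Submodule.mkQ_surjective N') (LinearMap.exact_subtype_mkQ N'), h1,
    (Submodule.comapSubtypeEquivOfLe (le_sup_left : N ≤ P)).length_eq]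

theorem length_spanBefore_le {l : ℕ} (e : Adm R M l) :
    ∀ i : ℕ, i ≤ l → Module.length R ↥(spanBefore R M e.1 i) ≤ i
  | 0, _ => by rw [spanBefore_zero, Module.length_bot]; simp
  | i + 1, hi => by
    have IH := length_spanBefore_le e i (by omega)
    rw [spanBefore_succ e.1 ⟨i, hi⟩]
    by_cases h : e.1 ⟨i, hi⟩ ∈ spanBefore R M e.1 i
    · rw [sup_eq_left.mpr ((Submodule.span_singleton_le_iff_mem _ _).mpr h)]
      exact IH.trans (by norm_cast; omega)
    · rw [length_sup_span (e.2 ⟨i, hi⟩) h, Nat.cast_add, Nat.cast_one]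
      exact add_le_add_left IH 1 |>.trans_eq rfl

theorem length_spanBefore_of_strict {l : ℕ} (e : Adm R M l) (he : Strict (R := R) e.1) :
    ∀ i : ℕ, i ≤ l → Module.length R ↥(spanBefore R M e.1 i) = i
  | 0, _ => by rw [spanBefore_zero, Module.length_bot]; simp
  | i + 1, hi => by
    rw [spanBefore_succ e.1 ⟨i, hi⟩, length_sup_span (e.2 ⟨i, hi⟩) (he ⟨i, hi⟩),
      length_spanBefore_of_strict e he i (by omega), Nat.cast_add, Nat.cast_one]

theorem isFiniteLength_of_length_eq {l : ℕ} (hl : Module.length R M = l) : IsFiniteLength R M :=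
  Module.length_ne_top_iff.mp (by rw [hl]; exact ENat.coe_ne_top l)

theorem span_eq_top_of_strict {l : ℕ} (hl : Module.length R M = l) (e : Adm R M l) (he : Strict (R := R) e.1) :
    Submodule.span R (Set.range e.1) = ⊤ := by
  obtain ⟨_, _⟩ := isFiniteLength_iff_isNoetherian_isArtinian.mp (isFiniteLength_of_length_eq hl)
  by_contra h
  have := Submodule.length_lt h
  rw [← spanBefore_top, length_spanBefore_of_strict e he l le_rfl, hl] at this
  exact lt_irrefl _ this

theorem strict_of_span_eq_top {l : ℕ} (hl : Module.length R M = l) (e : Adm R M l)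
    (he : Submodule.span R (Set.range e.1) = ⊤) : Strict (R := R) e.1 := by
  intro a ha
  have key : ∀ i : ℕ, (a : ℕ) < i → i ≤ l → Module.length R ↥(spanBefore R M e.1 i) + 1 ≤ i := by
    intro i
    induction i with
    | zero => omega
    | succ i IH =>
      intro hai hi
      rw [spanBefore_succ e.1 ⟨i, hi⟩]
      rcases Nat.lt_or_eq_of_le (Nat.lt_succ_iff.mp hai) with h | h
      · have := IH h (by omega)
        by_cases h' : e.1 ⟨i, hi⟩ ∈ spanBefore R M e.1 i
        · rw [sup_eq_left.mpr ((Submodule.span_singleton_le_iff_mem _ _).mpr h')]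
          exact this.trans (by norm_cast; omega)
        · rw [length_sup_span (e.2 ⟨i, hi⟩) h', Nat.cast_add, Nat.cast_one]
          gcongr
      · subst h
        rw [sup_eq_left.mpr ((Submodule.span_singleton_le_iff_mem _ _).mpr ha), Nat.cast_add, Nat.cast_one]
        gcongr
        exact length_spanBefore_le e _ (by omega)
  have := key l a.isLt le_rfl
  rw [spanBefore_top, he, Module.length_top, hl] at this
  norm_cast at this
  omega

/-! ### The line property -/

/-- Replacing one entry keeps all spans. -/
theorem spanBefore_eq_of_scale {l : ℕ} {e e' : Fin l → M} {a : Fin l} (c : Rˣ) (h1 : ∀ j, j ≠ a → e j = e' j)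
    (h2 : e a - (c : R) • e' a ∈ spanBefore R M e a) (i : ℕ) : spanBefore R M e i = spanBefore R M e' i := by
  have ha : spanBefore R M e (a : ℕ) = spanBefore R M e' (a : ℕ) :=
    spanBefore_congr fun j hj => h1 j fun h => absurd hj (by simp [h])
  by_cases hi : (a : ℕ) < i
  · apply le_antisymm <;> rw [spanBefore, Submodule.span_le] <;> rintro _ ⟨j, hj, rfl⟩
    · by_cases hja : j = a
      · subst hja
        rw [ha] at h2
        have := add_mem (spanBefore_mono e' hi.le h2) (Submodule.smul_mem _ (c : R) (mem_spanBefore (R := R) e' hi))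
        simpa using this
      · rw [h1 j hja]; exact mem_spanBefore e' hj
    · by_cases hja : j = a
      · subst hja
        have := sub_mem (mem_spanBefore (R := R) e hi) (spanBefore_mono e hi.le h2)
        rw [sub_sub_cancel] at this
        exact (Submodule.smul_mem_iff_of_isUnit _ c.isUnit).mp this
      · rw [← h1 j hja]; exact mem_spanBefore e hj
  · exact spanBefore_congr fun j hj => h1 j fun h => hi (h ▸ hj)

/-- Two tuples, the second strict and contained in the span of the first: proportional. -/
theorem IsDet.exists_smul {l : ℕ} {N : Type w} [AddCommGroup N] [Module (ResidueField R) N]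
    {ψ : Adm R M l → N} (hψ : IsDet ψ) (f : Adm R M l) (hf : Strict (R := R) f.1) (e : Adm R M l)
    (hfe : ∀ i, f.1 i ∈ Submodule.span R (Set.range e.1)) : ∃ c : ResidueField R, ψ e = c • ψ f := by
  suffices ∀ (n k : ℕ), k + n = l → ∀ e : Adm R M l, (∀ i, f.1 i ∈ Submodule.span R (Set.range e.1)) →
      (∀ j : Fin l, (j : ℕ) < k → e.1 j = f.1 j) → ∃ c : ResidueField R, ψ e = c • ψ f from
    this l 0 (by simp) e hfe (by simp)
  intro n
  induction n with
  | zero =>
    intro k hk e _ h
    exact ⟨1, by rw [one_smul, Subtype.ext (funext fun j => h j (by omega) : e.1 = f.1)]⟩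
  | succ n IH =>
    intro k hk e hfe h
    let K : Fin l := ⟨k, by omega⟩
    -- move `f K` down from position `p` to `k`
    have hdown : ∀ (d : ℕ) (p : Fin l), (p : ℕ) = k + d → ∀ e : Adm R M l,
        (∀ i, f.1 i ∈ Submodule.span R (Set.range e.1)) → (∀ j : Fin l, (j : ℕ) < k → e.1 j = f.1 j) →
        e.1 p = f.1 K → ∃ c : ResidueField R, ψ e = c • ψ f := by
      intro d
      induction d with
      | zero =>
        intro p hp e hfe h hep
        refine IH (k + 1) (by omega) e hfe fun j hj => ?_
        rcases Nat.lt_or_eq_of_le (Nat.lt_succ_iff.mp hj) with h' | h'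
        · exact h j h'
        · rw [show j = p from Fin.ext (by omega), hep]; exact congrArg f.1 (Fin.ext (by show k = (p : ℕ); omega))
      | succ d IHd =>
        intro p hp e hfe h hep
        let b : Fin l := ⟨k + d, by omega⟩
        have hbp : (b : ℕ) + 1 = p := by simp [b]; omega
        have hk' : spanBefore R M e.1 k = spanBefore R M f.1 k := spanBefore_congr h
        have hm : ∀ r ∈ maximalIdeal R, r • e.1 p ∈ spanBefore R M e.1 b := fun r hr => by
          rw [hep]
          exact spanBefore_mono e.1 (by simp [b]) (hk' ▸ f.2 K r hr)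
        have hlt : ∀ i : Fin l, (i : ℕ) ≤ b → spanBefore R M (e.1 ∘ Equiv.swap p b) i = spanBefore R M e.1 i := fun i hi =>
          spanBefore_congr fun j hj => congrArg e.1 (Equiv.swap_apply_of_ne_of_ne
            (fun h => by rw [h] at hj; omega) (fun h => by rw [h] at hj; omega))
        let e' : Adm R M l := ⟨e.1 ∘ Equiv.swap p b, fun i r hr => by
          rcases lt_trichotomy (i : ℕ) (b : ℕ) with hib | hib | hib
          · rw [hlt i hib.le, Function.comp_apply, Equiv.swap_apply_of_ne_of_ne
              (fun h => by rw [h] at hib; omega) (fun h => by rw [h] at hib; omega)]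
            exact e.2 i r hr
          · rw [show i = b from Fin.ext hib, hlt b le_rfl, Function.comp_apply, Equiv.swap_apply_right]
            exact hm r hr
          · by_cases hip : i = p
            · rw [hip, Function.comp_apply, Equiv.swap_apply_left]
              refine spanBefore_mono (i := (b : ℕ)) _ (by omega) ?_
              rw [hlt b le_rfl]
              exact e.2 b r hr
            · have hpi : (p : ℕ) < i := by
                have : (i : ℕ) ≠ p := fun h => hip (Fin.ext h)
                omega
              rw [Function.comp_apply, Equiv.swap_apply_of_ne_of_ne hip (fun h => by rw [h] at hpi; omega)]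
              have : spanBefore R M (e.1 ∘ Equiv.swap p b) i = spanBefore R M e.1 i := by
                refine congrArg (Submodule.span R) ?_
                rw [Set.image_comp]
                congr 1
                ext j
                constructor
                · rintro ⟨j', hj', rfl⟩
                  show ((Equiv.swap p b) j' : ℕ) < i
                  rw [Equiv.swap_apply_def]
                  split_ifs with h1 h2 <;> first | omega | exact hj'
                · intro hj'
                  refine ⟨Equiv.swap p b j, ?_, Equiv.swap_apply_self p b j⟩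
                  show ((Equiv.swap p b) j : ℕ) < i
                  rw [Equiv.swap_apply_def]
                  split_ifs with h1 h2 <;> first | omega | exact hj'
              rw [this]
              exact e.2 i r hr⟩
        obtain ⟨c, hc⟩ := IHd b (by simp [b]) e'
          (fun i => by show f.1 i ∈ Submodule.span R (Set.range (e.1 ∘ Equiv.swap p b)); rw [EquivLike.range_comp]; exact hfe i)
          (fun j hj => by
            show e.1 (Equiv.swap p b j) = f.1 j
            rw [Equiv.swap_apply_of_ne_of_ne (fun h => by rw [h] at hj; omega) (fun h => by rw [h] at hj; simp [b] at hj)]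
            exact h j hj)
          (by show e.1 (Equiv.swap p b b) = f.1 K; rw [Equiv.swap_apply_right, hep])
        refine ⟨-c, ?_⟩
        rw [neg_smul, ← hc, eq_neg_iff_add_eq_zero]
        exact hψ.swap e e' p b hbp hm rfl
    classical
    have hk' : spanBefore R M e.1 k = spanBefore R M f.1 k := spanBefore_congr h
    have hex : ∃ i, f.1 K ∈ spanBefore R M e.1 i := ⟨l, by rw [spanBefore_top]; exact hfe K⟩
    have hi0 : k < Nat.find hex := by
      by_contra hle
      exact hf K (show f.1 K ∈ spanBefore R M f.1 k from hk' ▸ spanBefore_mono (R := R) e.1 (not_lt.mp hle) (Nat.find_spec hex))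
    have hil : Nat.find hex ≤ l := Nat.find_min' hex (by rw [spanBefore_top]; exact hfe K)
    let p : Fin l := ⟨Nat.find hex - 1, by omega⟩
    have hp1 : (p : ℕ) + 1 = Nat.find hex := by simp [p]; omega
    have hpk : k ≤ (p : ℕ) := by omega
    have hmem := Nat.find_spec hex
    rw [← hp1, spanBefore_succ, Submodule.mem_sup] at hmem
    obtain ⟨y, hy, w, hw, hyw⟩ := hmem
    obtain ⟨r, rfl⟩ := Submodule.mem_span_singleton.mp hw
    obtain ⟨c, rfl⟩ := isUnit_of_smul_notMem (e.2 p) fun hr =>
      Nat.find_min hex (show (p : ℕ) < Nat.find hex by omega) (hyw ▸ add_mem hy hr)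
    have hne : ∀ j : Fin l, j ≠ p → Function.update e.1 p (f.1 K) j = e.1 j := fun j hj => Function.update_of_ne hj _ _
    have h2 : Function.update e.1 p (f.1 K) p - (c : R) • e.1 p ∈ spanBefore R M (Function.update e.1 p (f.1 K)) p := by
      rw [Function.update_self, spanBefore_congr fun j hj => hne j fun h => absurd hj (by simp [h]), ← hyw, add_sub_cancel_right]
      exact hy
    have hsp := spanBefore_eq_of_scale c hne h2
    let e' : Adm R M l := ⟨Function.update e.1 p (f.1 K), fun i s hs => by
      rw [hsp]
      by_cases hip : i = p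
      · rw [hip, Function.update_self]
        exact spanBefore_mono e.1 hpk (hk' ▸ f.2 K s hs)
      · rw [hne i hip]
        exact e.2 i s hs⟩
    obtain ⟨d, hd⟩ := hdown ((p : ℕ) - k) p (by omega) e'
      (fun i => by rw [← spanBefore_top, show spanBefore R M e'.1 l = spanBefore R M e.1 l from hsp l, spanBefore_top]; exact hfe i)
      (fun j hj => (hne j fun h => by rw [h] at hj; omega).trans (h j hj))
      (Function.update_self _ _ _)
    refine ⟨(residue R (c : R))⁻¹ * d, ?_⟩
    rw [← smul_smul, ← hd, hψ.scale e' e p c hne h2, smul_smul, inv_mul_cancel₀ (residue_ne_zero c), one_smul]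

theorem IsDet.exists_smul' {l : ℕ} {N : Type w} [AddCommGroup N] [Module (ResidueField R) N]
    {ψ : Adm R M l → N} (hψ : IsDet ψ) (hl : Module.length R M = l) (f : Adm R M l) (hf : Strict (R := R) f.1)
    (e : Adm R M l) : ∃ c : ResidueField R, ψ e = c • ψ f := by
  by_cases he : Strict (R := R) e.1
  · exact hψ.exists_smul f hf e fun i => span_eq_top_of_strict hl e he ▸ Submodule.mem_top
  · exact ⟨0, by rw [zero_smul, hψ.eq_zero e he]⟩

/-- The space of symbols of full length is spanned by any strict symbol. -/
theorem span_symbol {l : ℕ} (hl : Module.length R M = l) (f : Adm R M l) (hf : Strict (R := R) f.1) :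
    Submodule.span (ResidueField R) {(Submodule.Quotient.mk (sym R M f) : DetOfLen R M l)} = ⊤ := by
  rw [eq_top_iff]
  intro z _
  obtain ⟨z, rfl⟩ := Submodule.Quotient.mk_surjective _ z
  induction z using Finsupp.induction_linear with
  | zero => simp
  | add a b ha hb => rw [Submodule.Quotient.mk_add]; exact add_mem (ha Submodule.mem_top) (hb Submodule.mem_top)
  | single e r =>
    obtain ⟨c, hc⟩ := (isDet_mk (R := R) (M := M) l).exists_smul' hl f hf e
    rw [show Finsupp.single e r = r • sym R M e by simp [sym], Submodule.Quotient.mk_smul]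
    refine Submodule.smul_mem _ _ ?_
    rw [hc]
    exact Submodule.smul_mem _ _ (Submodule.mem_span_singleton_self _)

end Groth.Agent.CycDetLib
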