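import Mathlib
import Groth.Agent.CycDetLib.Basic

/-!
# Existence of a nonzero determinant function on a finite length module
-/

set_option autoImplicit false

universe u v

namespace Groth.Agent.CycDetLib

open CycDet IsLocalRing

variable {R : Type u} [CommRing R] [IsLocalRing R] {M : Type v} [AddCommGroup M] [Module R M]

theorem spanBefore_map_succAbove {l : ℕ} {M' : Type v} [AddCommGroup M'] [Module R M'] (π : M →ₗ[R] M')
    (e : Fin (l + 1) → M) (j : Fin (l + 1)) (hj : π (e j) ∈ (spanBefore R M e j).map π) (i : Fin l) :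
    spanBefore R M' (π ∘ e ∘ j.succAbove) i = (spanBefore R M e (j.succAbove i : ℕ)).map π := by
  rw [spanBefore, spanBefore, Submodule.map_span]
  apply le_antisymm <;> rw [Submodule.span_le]
  · rintro _ ⟨k, hk, rfl⟩
    exact Submodule.subset_span ⟨e (j.succAbove k), ⟨_, Fin.succAbove_lt_succAbove_iff.mpr hk, rfl⟩, rfl⟩
  · rintro _ ⟨_, ⟨q, hq, rfl⟩, rfl⟩
    have hne : ∀ q : Fin (l + 1), q ≠ j → (q : ℕ) < (j.succAbove i : ℕ) →
        π (e q) ∈ Submodule.span R ((π ∘ e ∘ j.succAbove) '' {k : Fin l | (k : ℕ) < i}) := fun q hqj hq => by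
      obtain ⟨k, rfl⟩ := Fin.exists_succAbove_eq hqj
      exact Submodule.subset_span ⟨k, Fin.succAbove_lt_succAbove_iff.mp hq, rfl⟩
    by_cases hqj : q = j
    · subst hqj
      rw [spanBefore, Submodule.map_span] at hj
      refine (Submodule.span_le.mpr ?_) hj
      rintro _ ⟨_, ⟨q', hq', rfl⟩, rfl⟩
      exact hne q' (fun h => by subst h; exact lt_irrefl _ (show (q' : ℕ) < q' from hq')) (lt_trans hq' hq)
    · exact hne q hqj hq

variable (R) in
/-- `j` is the position at which `x` enters the flag of `e`, with leading coefficient `v`. -/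
def Pivot {l : ℕ} (e : Fin l → M) (x : M) (j : Fin l) (v : R) : Prop :=
  x ∉ spanBefore R M e j ∧ e j - v • x ∈ spanBefore R M e j

theorem Pivot.mem_succ {l : ℕ} {e : Adm R M l} {x : M} (hx : ∀ r ∈ maximalIdeal R, r • x = 0)
    (he : Strict (R := R) e.1) {j : Fin l} {v : R} (h : Pivot R e.1 x j v) :
    x ∈ spanBefore R M e.1 ((j : ℕ) + 1) := by
  have hv : v • x ∈ spanBefore R M e.1 ((j : ℕ) + 1) := by
    have := sub_mem (mem_spanBefore (R := R) e.1 (show (j : ℕ) < (j : ℕ) + 1 by omega)) (spanBefore_mono e.1 (Nat.le_succ (j : ℕ)) h.2)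
    rwa [sub_sub_cancel] at this
  by_cases hu : IsUnit v
  · exact (Submodule.smul_mem_iff_of_isUnit _ hu).mp hv
  · exact absurd (by simpa [hx v ((mem_maximalIdeal v).mpr hu)] using h.2) (he j)

theorem Pivot.unique {l : ℕ} {e : Adm R M l} {x : M} (hx : ∀ r ∈ maximalIdeal R, r • x = 0)
    (he : Strict (R := R) e.1) {j j' : Fin l} {v v' : R} (h : Pivot R e.1 x j v) (h' : Pivot R e.1 x j' v') :
    j = j' ∧ residue R v = residue R v' := by
  have hjj : j = j' := by
    rcases lt_trichotomy (j : ℕ) (j' : ℕ) with hlt | heq | hlt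
    · exact absurd (spanBefore_mono e.1 hlt (h.mem_succ hx he)) h'.1
    · exact Fin.ext heq
    · exact absurd (spanBefore_mono e.1 hlt (h'.mem_succ hx he)) h.1
  subst hjj
  refine ⟨rfl, ?_⟩
  rw [← sub_eq_zero, ← map_sub, residue_eq_zero_iff, mem_maximalIdeal]
  intro hu
  have := sub_mem h'.2 h.2
  rw [sub_sub_sub_cancel_left, ← sub_smul] at this
  exact h.1 ((Submodule.smul_mem_iff_of_isUnit _ hu).mp this)

theorem exists_pivot {l : ℕ} (hl : Module.length R M = l) (e : Adm R M l) (he : Strict (R := R) e.1) {x : M}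
    (hx0 : x ≠ 0) : ∃ j v, Pivot R e.1 x j v := by
  classical
  have hex : ∃ i, x ∈ spanBefore R M e.1 i :=
    ⟨l, by rw [spanBefore_top, span_eq_top_of_strict hl e he]; trivial⟩
  have hil : Nat.find hex ≤ l := Nat.find_min' hex (by rw [spanBefore_top, span_eq_top_of_strict hl e he]; trivial)
  have hi0 : 0 < Nat.find hex := by
    refine Nat.pos_of_ne_zero fun h0 => hx0 ?_
    have := Nat.find_spec hex
    rw [h0, spanBefore_zero] at this
    exact (Submodule.mem_bot R).mp this
  let p : Fin l := ⟨Nat.find hex - 1, by omega⟩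
  have hp1 : (p : ℕ) + 1 = Nat.find hex := by simp [p]; omega
  have hxp : x ∉ spanBefore R M e.1 p := Nat.find_min hex (show (p : ℕ) < Nat.find hex by omega)
  have hmem := Nat.find_spec hex
  rw [← hp1, spanBefore_succ, Submodule.mem_sup] at hmem
  obtain ⟨y, hy, w, hw, hyw⟩ := hmem
  obtain ⟨r, rfl⟩ := Submodule.mem_span_singleton.mp hw
  obtain ⟨c, rfl⟩ := isUnit_of_smul_notMem (e.2 p) fun hr => hxp (hyw ▸ add_mem hy hr)
  refine ⟨p, ((c⁻¹ : Rˣ) : R), hxp, ?_⟩
  rw [← hyw, smul_add, smul_smul, Units.inv_mul, one_smul, show e.1 p - (((c⁻¹ : Rˣ) : R) • y + e.1 p) = -(((c⁻¹ : Rˣ) : R) • y) by abel]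
  exact neg_mem (Submodule.smul_mem _ _ hy)

/-- The tuple in `M ⧸ R x` obtained by deleting the pivot. -/
noncomputable def delPivot {l : ℕ} (e : Adm R M (l + 1)) {x : M} {j : Fin (l + 1)} {v : R} (h : Pivot R e.1 x j v) :
    Adm R (M ⧸ R ∙ x) l :=
  ⟨(R ∙ x).mkQ ∘ e.1 ∘ j.succAbove, fun i r hr => by
    rw [spanBefore_map_succAbove (R ∙ x).mkQ e.1 j ⟨e.1 j - v • x, h.2, by
      rw [map_sub, map_smul, show (R ∙ x).mkQ x = 0 from (Submodule.Quotient.mk_eq_zero _).mpr (Submodule.mem_span_singleton_self x), smul_zero, sub_zero]⟩ i]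
    exact ⟨r • e.1 (j.succAbove i), e.2 _ r hr, map_smul _ _ _⟩⟩

theorem delPivot_spanBefore {l : ℕ} (e : Adm R M (l + 1)) {x : M} {j : Fin (l + 1)} {v : R} (h : Pivot R e.1 x j v) (i : Fin l) :
    spanBefore R (M ⧸ R ∙ x) (delPivot e h).1 i = (spanBefore R M e.1 (j.succAbove i : ℕ)).map (R ∙ x).mkQ :=
  spanBefore_map_succAbove (R ∙ x).mkQ e.1 j ⟨e.1 j - v • x, h.2, by
    rw [map_sub, map_smul, show (R ∙ x).mkQ x = 0 from (Submodule.Quotient.mk_eq_zero _).mpr (Submodule.mem_span_singleton_self x), smul_zero, sub_zero]⟩ i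

theorem mkQ_smul_self (x : M) (r : R) : (R ∙ x).mkQ (r • x) = 0 :=
  (Submodule.Quotient.mk_eq_zero _).mpr (Submodule.smul_mem _ _ (Submodule.mem_span_singleton_self x))

open Classical in
/-- The determinant function of `M` induced by one of `M ⧸ R x`. -/
noncomputable def extendDet {l : ℕ} (x : M) (φ : Adm R (M ⧸ R ∙ x) l → ResidueField R) (e : Adm R M (l + 1)) :
    ResidueField R :=
  if h : Strict (R := R) e.1 ∧ ∃ j v, Pivot R e.1 x j v then
    (-1) ^ (h.2.choose : ℕ) * residue R h.2.choose_spec.choose * φ (delPivot e h.2.choose_spec.choose_spec)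
  else 0

section extend

variable {l : ℕ} {x : M} (hx : ∀ r ∈ maximalIdeal R, r • x = 0) (φ : Adm R (M ⧸ R ∙ x) l → ResidueField R)

theorem extendDet_of_not_strict (e : Adm R M (l + 1)) (he : ¬ Strict (R := R) e.1) : extendDet x φ e = 0 := by
  rw [extendDet, dif_neg fun h => he h.1]

include hx in
theorem extendDet_eq (e : Adm R M (l + 1)) (he : Strict (R := R) e.1) {j : Fin (l + 1)} {v : R}
    (h : Pivot R e.1 x j v) : extendDet x φ e = (-1) ^ (j : ℕ) * residue R v * φ (delPivot e h) := by
  have h' : Strict (R := R) e.1 ∧ ∃ j v, Pivot R e.1 x j v := ⟨he, j, v, h⟩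
  rw [extendDet, dif_pos h']
  have key : ∀ (j' : Fin (l + 1)) (v' : R) (g : Pivot R e.1 x j' v'),
      (-1) ^ (j' : ℕ) * residue R v' * φ (delPivot e g) = (-1) ^ (j : ℕ) * residue R v * φ (delPivot e h) := by
    intro j' v' g
    obtain ⟨rfl, h2⟩ := h.unique hx he g
    rw [← h2]
    rfl
  exact key _ _ _

variable (hl : Module.length R M = ((l + 1 : ℕ) : ℕ∞)) (hx0 : x ≠ 0) (hφ : IsDet φ)

include hx hl hx0 hφ

theorem extendDet_scale (e e' : Adm R M (l + 1)) (a : Fin (l + 1)) (c : Rˣ) (h1 : ∀ j, j ≠ a → e.1 j = e'.1 j)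
    (h2 : e.1 a - (c : R) • e'.1 a ∈ spanBefore R M e.1 a) :
    extendDet x φ e = residue R (c : R) • extendDet x φ e' := by
  have hsp := spanBefore_eq_of_scale c h1 h2
  by_cases he : Strict (R := R) e.1
  swap
  · rw [extendDet_of_not_strict φ e he, extendDet_of_not_strict φ e' ?_, smul_zero]
    intro he'
    apply he
    intro i hi
    by_cases hia : i = a
    · subst hia
      have := sub_mem hi h2
      rw [sub_sub_cancel, hsp] at this
      exact he' i ((Submodule.smul_mem_iff_of_isUnit _ c.isUnit).mp this)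
    · rw [h1 i hia, hsp] at hi
      exact he' i hi
  have he' : Strict (R := R) e'.1 := by
    intro i hi
    apply he i
    by_cases hia : i = a
    · subst hia
      rw [← hsp] at hi
      have := add_mem h2 (Submodule.smul_mem _ (c : R) hi)
      rwa [sub_add_cancel] at this
    · rw [h1 i hia, hsp]; exact hi
  obtain ⟨j, v, hp'⟩ := exists_pivot hl e' he' hx0
  by_cases hja : j = a
  · subst hja
    have hp : Pivot R e.1 x j ((c : R) * v) := ⟨fun h => hp'.1 (hsp j ▸ h), by
      have h3 : (c : R) • (e'.1 j - v • x) ∈ spanBefore R M e.1 j := Submodule.smul_mem _ _ (by rw [hsp]; exact hp'.2)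
      rw [smul_sub, smul_smul] at h3
      have := add_mem h2 h3
      rwa [sub_add_sub_cancel] at this⟩
    rw [extendDet_eq hx φ e he hp, extendDet_eq hx φ e' he' hp', show delPivot e hp = delPivot e' hp' from
      Subtype.ext (funext fun k => congrArg (R ∙ x).mkQ (h1 _ (Fin.succAbove_ne j k))), map_mul, smul_eq_mul]
    ring
  · have hp : Pivot R e.1 x j v := ⟨fun h => hp'.1 (hsp j ▸ h), by rw [h1 j hja, hsp]; exact hp'.2⟩
    obtain ⟨a', ha'⟩ := Fin.exists_succAbove_eq (fun h => hja h.symm : a ≠ j)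
    have := hφ.scale (delPivot e hp) (delPivot e' hp') a' c
      (fun k hk => congrArg (R ∙ x).mkQ (h1 _ fun h => hk (Fin.succAbove_right_injective (h.trans ha'.symm))))
      (by
        rw [delPivot_spanBefore]
        refine ⟨e.1 a - (c : R) • e'.1 a, ha' ▸ h2, ?_⟩
        show _ = (R ∙ x).mkQ (e.1 (j.succAbove a')) - (c : R) • (R ∙ x).mkQ (e'.1 (j.succAbove a'))
        rw [ha', map_sub, map_smul])
    rw [extendDet_eq hx φ e he hp, extendDet_eq hx φ e' he' hp', this, smul_eq_mul, smul_eq_mul]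
    ring

omit hx hl hx0 hφ in
theorem spanBefore_swap {m : ℕ} {f f' : Fin m → M} {a b : Fin m} (hab : (b : ℕ) + 1 = (a : ℕ))
    (h3 : f' = f ∘ Equiv.swap a b) {i : ℕ} (hi : i ≠ (a : ℕ)) : spanBefore R M f' i = spanBefore R M f i := by
  subst h3
  refine congrArg (Submodule.span R) ?_
  rw [Set.image_comp]
  congr 1
  ext j
  constructor
  · rintro ⟨j', hj', rfl⟩
    show ((Equiv.swap a b) j' : ℕ) < i
    have hj'' : (j' : ℕ) < i := hj'
    rw [Equiv.swap_apply_def]
    split_ifs with h1 h2
    · subst h1; omega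
    · subst h2; omega
    · exact hj''
  · intro hj'
    refine ⟨Equiv.swap a b j, ?_, Equiv.swap_apply_self a b j⟩
    show ((Equiv.swap a b) j : ℕ) < i
    have hj'' : (j : ℕ) < i := hj'
    rw [Equiv.swap_apply_def]
    split_ifs with h1 h2
    · subst h1; omega
    · subst h2; omega
    · exact hj''

omit hx hl hx0 hφ in
theorem strict_swap {m : ℕ} {e : Adm R M m} {e' : Adm R M m} {a b : Fin m} (hab : (b : ℕ) + 1 = (a : ℕ))
    (h2 : ∀ r ∈ maximalIdeal R, r • e.1 a ∈ spanBefore R M e.1 b)
    (h3 : e'.1 = e.1 ∘ Equiv.swap a b) (he : Strict (R := R) e.1) : Strict (R := R) e'.1 := by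
  intro i hi
  by_cases hia : i = a
  · subst hia
    have hb : spanBefore R M e'.1 b = spanBefore R M e.1 b := spanBefore_swap hab h3 (by omega)
    rw [← hab, spanBefore_succ, hb, show e'.1 b = e.1 i by rw [h3, Function.comp_apply, Equiv.swap_apply_right],
      show e'.1 i = e.1 b by rw [h3, Function.comp_apply, Equiv.swap_apply_left], Submodule.mem_sup] at hi
    obtain ⟨y, hy, w, hw, hyw⟩ := hi
    obtain ⟨r, rfl⟩ := Submodule.mem_span_singleton.mp hw
    by_cases hr : IsUnit r
    · refine he i ?_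
      rw [← hab, spanBefore_succ]
      refine (Submodule.smul_mem_iff_of_isUnit _ hr).mp ?_
      rw [show r • e.1 i = e.1 b - y by rw [← hyw, add_sub_cancel_left]]
      exact sub_mem (Submodule.mem_sup_right (Submodule.mem_span_singleton_self _)) (Submodule.mem_sup_left hy)
    · exact he b (hyw ▸ add_mem hy (h2 r ((mem_maximalIdeal r).mpr hr)))
  · rw [spanBefore_swap hab h3 (fun h => hia (Fin.ext h))] at hi
    by_cases hib : i = b
    · subst hib
      rw [h3, Function.comp_apply, Equiv.swap_apply_right] at hi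
      exact he a (spanBefore_mono e.1 (by omega) hi)
    · rw [h3, Function.comp_apply, Equiv.swap_apply_of_ne_of_ne hia hib] at hi
      exact he i hi

omit hl hx0 in
theorem extendDet_swap_two (e e' : Adm R M (l + 1)) (a b : Fin (l + 1)) (hab : (b : ℕ) + 1 = (a : ℕ))
    (h2 : ∀ r ∈ maximalIdeal R, r • e.1 a ∈ spanBefore R M e.1 b)
    (h3 : e'.1 = e.1 ∘ Equiv.swap a b) (he : Strict (R := R) e.1) {v : R} (hp : Pivot R e.1 x a v) :
    extendDet x φ e + extendDet x φ e' = 0 := by
  have he' := strict_swap hab h2 h3 he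
  have hb : spanBefore R M e'.1 b = spanBefore R M e.1 b := spanBefore_swap hab h3 (by omega)
  have hea : e'.1 a = e.1 b := by rw [h3, Function.comp_apply, Equiv.swap_apply_left]
  have heb : e'.1 b = e.1 a := by rw [h3, Function.comp_apply, Equiv.swap_apply_right]
  have hother : ∀ k, k ≠ a → k ≠ b → e'.1 k = e.1 k := fun k hka hkb => by
    rw [h3, Function.comp_apply, Equiv.swap_apply_of_ne_of_ne hka hkb]
  -- `e a - v x = y + s e b`
  have h4 := hp.2
  rw [← hab, spanBefore_succ, Submodule.mem_sup] at h4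
  obtain ⟨y, hy, w, hw, hyw⟩ := h4
  obtain ⟨s, rfl⟩ := Submodule.mem_span_singleton.mp hw
  have hxb : x ∉ spanBefore R M e.1 b := fun h => hp.1 (spanBefore_mono e.1 (by omega) h)
  -- the entries `k` with `a.succAbove k = b` and `b.succAbove k = a`
  have hneighbour : ∀ k : Fin l, (b.succAbove k = a ↔ a.succAbove k = b) ∧ (a.succAbove k ≠ b → a.succAbove k = b.succAbove k) := by
    intro k
    simp only [Fin.succAbove, Fin.lt_def, Fin.val_castSucc]
    refine ⟨?_, ?_⟩ <;> split_ifs <;> simp [Fin.ext_iff] at * <;> omega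
  by_cases hs : IsUnit s
  · -- pivot stays at `a`
    obtain ⟨s, rfl⟩ := hs
    let t : R := ((s⁻¹ : Rˣ) : R)
    have hp' : Pivot R e'.1 x a (-(t * v)) := by
      constructor
      · rw [← hab, spanBefore_succ, hb, heb]
        intro h
        obtain ⟨y', hy', w, hw, hyw'⟩ := Submodule.mem_sup.mp h
        obtain ⟨r, rfl⟩ := Submodule.mem_span_singleton.mp hw
        obtain ⟨r, rfl⟩ := isUnit_of_smul_notMem h2 fun hr => hxb (hyw' ▸ add_mem hy' hr)
        refine he a ?_
        rw [← hab, spanBefore_succ]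
        -- solve for `e a`
        have h5 : (1 - v * (r : R)) • e.1 a = y + v • y' + (s : R) • e.1 b := by
          have h6 : e.1 a = v • x + (y + (s : R) • e.1 b) := by rw [hyw]; abel
          rw [sub_smul, one_smul, ← smul_smul, show (r : R) • e.1 a = x - y' by rw [← hyw', add_sub_cancel_left], smul_sub]
          nth_rewrite 1 [h6]; abel
        by_cases hu : IsUnit (1 - v * (r : R))
        · refine (Submodule.smul_mem_iff_of_isUnit _ hu).mp (h5 ▸ ?_)
          exact add_mem (Submodule.mem_sup_left (add_mem hy (Submodule.smul_mem _ _ hy')))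
            (Submodule.smul_mem _ _ (Submodule.mem_sup_right (Submodule.mem_span_singleton_self _)))
        · exfalso
          refine he b ((Submodule.smul_mem_iff_of_isUnit _ s.isUnit).mp ?_)
          rw [show (s : R) • e.1 b = (1 - v * (r : R)) • e.1 a - (y + v • y') by rw [h5]; abel]
          exact sub_mem (h2 _ ((mem_maximalIdeal _).mpr hu)) (add_mem hy (Submodule.smul_mem _ _ hy'))
      · rw [← hab, spanBefore_succ, hb, heb, hea]
        have h6 : (s : R) • e.1 b = e.1 a - v • x - y := by rw [← hyw]; abel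
        have h7 : e.1 b = t • (e.1 a - v • x - y) := by rw [← h6, smul_smul, Units.inv_mul, one_smul]
        rw [show e.1 b - -(t * v) • x = t • e.1 a - t • y by rw [h7, smul_sub, smul_sub, neg_smul, smul_smul]; abel]
        exact sub_mem (Submodule.smul_mem _ _ (Submodule.mem_sup_right (Submodule.mem_span_singleton_self _)))
          (Submodule.mem_sup_left (Submodule.smul_mem _ _ hy))
    obtain ⟨b', hb'⟩ := Fin.exists_succAbove_eq (fun h => by rw [h] at hab; omega : b ≠ a)
    have := hφ.scale (delPivot e' hp') (delPivot e hp) b' s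
      (fun k hk => congrArg (R ∙ x).mkQ (hother _ (Fin.succAbove_ne a k)
        fun h => hk (Fin.succAbove_right_injective (h.trans hb'.symm))))
      (by
        rw [delPivot_spanBefore, hb', hb]
        refine ⟨y, hy, ?_⟩
        show _ = (R ∙ x).mkQ (e'.1 (a.succAbove b')) - (s : R) • (R ∙ x).mkQ (e.1 (a.succAbove b'))
        rw [hb', heb, ← map_smul, ← map_sub, show e.1 a - (s : R) • e.1 b = y + v • x by
          rw [show e.1 a = v • x + (y + (s : R) • e.1 b) by rw [hyw]; abel]; abel, map_add, mkQ_smul_self, add_zero])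
    rw [extendDet_eq hx φ e he hp, extendDet_eq hx φ e' he' hp', this, smul_eq_mul, map_neg, map_mul]
    have hts : residue R t * residue R (s : R) = 1 := by rw [← map_mul, Units.inv_mul, map_one]
    linear_combination (-(-1 : ResidueField R) ^ (a : ℕ) * residue R v * φ (delPivot e hp)) * hts
  · -- pivot moves to `b`
    have hp' : Pivot R e'.1 x b v := by
      refine ⟨hb ▸ hxb, ?_⟩
      rw [heb, hb, ← hyw]
      exact add_mem hy (e.2 b s ((mem_maximalIdeal s).mpr hs))
    have hdel : delPivot e' hp' = delPivot e hp := Subtype.ext (funext fun k => congrArg (R ∙ x).mkQ (by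
      obtain ⟨hk1, hk2⟩ := hneighbour k
      show e'.1 (b.succAbove k) = e.1 (a.succAbove k)
      by_cases hk : a.succAbove k = b
      · rw [hk, hk1.mpr hk]; exact hea
      · rw [hk2 hk]
        exact hother _ (fun h => hk (hk1.mp h)) (Fin.succAbove_ne b k)))
    rw [extendDet_eq hx φ e he hp, extendDet_eq hx φ e' he' hp', hdel, show (a : ℕ) = (b : ℕ) + 1 from hab.symm, pow_succ]
    ring

theorem extendDet_swap (e e' : Adm R M (l + 1)) (a b : Fin (l + 1)) (hab : (b : ℕ) + 1 = (a : ℕ))
    (h2 : ∀ r ∈ maximalIdeal R, r • e.1 a ∈ spanBefore R M e.1 b)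
    (h3 : e'.1 = e.1 ∘ Equiv.swap a b) : extendDet x φ e + extendDet x φ e' = 0 := by
  have h3' : e.1 = e'.1 ∘ Equiv.swap a b := by
    rw [h3, Function.comp_assoc]; funext k; simp
  have hbb : spanBefore R M e'.1 b = spanBefore R M e.1 b := spanBefore_swap hab h3 (by omega)
  have h2' : ∀ r ∈ maximalIdeal R, r • e'.1 a ∈ spanBefore R M e'.1 b := fun r hr => by
    rw [h3, Function.comp_apply, Equiv.swap_apply_left, ← h3, hbb]
    exact e.2 b r hr
  by_cases he : Strict (R := R) e.1
  swap
  · rw [extendDet_of_not_strict φ e he,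
      extendDet_of_not_strict φ e' fun he' => he (strict_swap hab h2' h3' he'), add_zero]
  have he' := strict_swap hab h2 h3 he
  obtain ⟨j, v, hp⟩ := exists_pivot hl e he hx0
  by_cases hja : j = a
  · subst hja; exact extendDet_swap_two hx φ hφ e e' j b hab h2 h3 he hp
  by_cases hjb : j = b
  · subst hjb
    obtain ⟨j', v', hp'⟩ := exists_pivot hl e' he' hx0
    have hj'a : j' = a := by
      -- `x` lies in the span of the first `a + 1` entries of `e'`, not in that of the first `a`
      rcases lt_trichotomy (j' : ℕ) (a : ℕ) with hlt | heq | hlt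
      · exfalso
        have hmem := spanBefore_mono e'.1 hlt (hp'.mem_succ hx he')
        rw [← hab, spanBefore_succ, hbb, h3, Function.comp_apply, Equiv.swap_apply_right] at hmem
        obtain ⟨y, hy, w, hw, hyw⟩ := Submodule.mem_sup.mp hmem
        obtain ⟨r, rfl⟩ := Submodule.mem_span_singleton.mp hw
        obtain ⟨r, rfl⟩ := isUnit_of_smul_notMem h2 fun hr => hp.1 (hyw ▸ add_mem hy hr)
        refine he a ?_
        rw [← hab]
        refine (Submodule.smul_mem_iff_of_isUnit _ r.isUnit).mp ?_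
        rw [show (r : R) • e.1 a = x - y by rw [← hyw, add_sub_cancel_left]]
        exact sub_mem (hp.mem_succ hx he) (spanBefore_mono e.1 (Nat.le_succ _) hy)
      · exact Fin.ext heq
      · exfalso
        refine hp'.1 (spanBefore_mono e'.1 (show (a : ℕ) + 1 ≤ (j' : ℕ) by omega) ?_)
        rw [spanBefore_swap hab h3 (show (a : ℕ) + 1 ≠ (a : ℕ) by omega)]
        exact spanBefore_mono e.1 (by omega) (hp.mem_succ hx he)
    subst hj'a
    rw [add_comm]
    exact extendDet_swap_two hx φ hφ e' e j' j hab h2' h3' he' hp'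
  · -- pivot elsewhere
    have hja' : (j : ℕ) ≠ a := fun h => hja (Fin.ext h)
    have hjb' : (j : ℕ) ≠ b := fun h => hjb (Fin.ext h)
    have hp' : Pivot R e'.1 x j v := by
      refine ⟨?_, ?_⟩ <;> rw [spanBefore_swap hab h3 hja']
      · exact hp.1
      · rw [h3, Function.comp_apply, Equiv.swap_apply_of_ne_of_ne hja hjb]; exact hp.2
    obtain ⟨a', ha'⟩ := Fin.exists_succAbove_eq (Ne.symm hja)
    obtain ⟨b', hb'⟩ := Fin.exists_succAbove_eq (Ne.symm hjb)
    have hab' : (b' : ℕ) + 1 = (a' : ℕ) := by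
      have h1 := congrArg Fin.val ha'
      have h2 := congrArg Fin.val hb'
      simp only [Fin.succAbove, Fin.lt_def, Fin.val_castSucc] at h1 h2
      split_ifs at h1 h2 <;> simp only [Fin.val_castSucc, Fin.val_succ] at h1 h2 <;> omega
    have := hφ.swap (delPivot e hp) (delPivot e' hp') a' b' hab'
      (fun r hr => by
        rw [delPivot_spanBefore, hb']
        refine ⟨r • e.1 a, h2 r hr, ?_⟩
        show _ = r • (R ∙ x).mkQ (e.1 (j.succAbove a'))
        rw [ha', map_smul])
      (funext fun k => congrArg (R ∙ x).mkQ (by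
        show e'.1 (j.succAbove k) = e.1 (j.succAbove (Equiv.swap a' b' k))
        rw [h3, Function.comp_apply, ← ha', ← hb', Fin.succAbove_right_injective.swap_apply]))
    rw [extendDet_eq hx φ e he hp, extendDet_eq hx φ e' he' hp', ← mul_add, this, mul_zero]

theorem isDet_extendDet : IsDet (extendDet x φ) where
  zero e a ha := extendDet_of_not_strict φ e fun he => he a ha
  scale := extendDet_scale hx φ hl hx0 hφ
  swap := extendDet_swap hx φ hl hx0 hφ

end extend

theorem exists_isDet_ne_zero : ∀ (l : ℕ) (M : Type v) [AddCommGroup M] [Module R M],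
    Module.length R M = l → ∀ e : Adm R M l, Submodule.span R (Set.range e.1) = ⊤ →
      ∃ φ : Adm R M l → ResidueField R, IsDet φ ∧ φ e ≠ 0
  | 0, M, _, _, _, e, _ => ⟨fun _ => 1, ⟨fun _ a => a.elim0, fun _ _ a => a.elim0, fun _ _ a => a.elim0⟩, one_ne_zero⟩
  | l + 1, M, _, _, hl, e, hspan => by
    have he := strict_of_span_eq_top hl e hspan
    have h0 : spanBefore R M e.1 0 = ⊥ := spanBefore_zero e.1
    set x := e.1 0 with hxdef
    have hx : ∀ r ∈ maximalIdeal R, r • x = 0 := fun r hr => by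
      have := e.2 0 r hr
      rwa [Fin.val_zero, h0, Submodule.mem_bot] at this
    have hx0 : x ≠ 0 := fun h => he 0 (by rw [← hxdef, h]; exact zero_mem _)
    have hp : Pivot R e.1 x 0 1 := by
      refine ⟨by rw [Fin.val_zero, h0, Submodule.mem_bot]; exact hx0, ?_⟩
      rw [one_smul, hxdef, sub_self]; exact zero_mem _
    have hspan' : Submodule.span R (Set.range (delPivot e hp).1) = ⊤ := by
      have h1 := congrArg (Submodule.map (R ∙ x).mkQ) hspan
      rw [Submodule.map_span, Submodule.map_top, Submodule.range_mkQ] at h1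
      refine eq_top_iff.mpr (h1.ge.trans (Submodule.span_le.mpr ?_))
      rintro _ ⟨_, ⟨i, rfl⟩, rfl⟩
      cases i using Fin.cases with
      | zero => rw [← hxdef, show (R ∙ x).mkQ x = 0 from (Submodule.Quotient.mk_eq_zero _).mpr (Submodule.mem_span_singleton_self x)]; exact zero_mem _
      | succ i => exact Submodule.subset_span ⟨i, rfl⟩
    have hlen : Module.length R (M ⧸ R ∙ x) = l := by
      have h1 : Module.length R ↥(R ∙ x) = 1 := by
        have := length_sup_span (N := (⊥ : Submodule R M)) (y := x)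
          (fun r hr => (Submodule.mem_bot R).mpr (hx r hr)) (fun h => hx0 ((Submodule.mem_bot R).mp h))
        rwa [bot_sup_eq, Module.length_bot, zero_add] at this
      have h2 := Module.length_eq_add_of_exact (R ∙ x).subtype (R ∙ x).mkQ (Submodule.injective_subtype _)
        (Submodule.mkQ_surjective _) (LinearMap.exact_subtype_mkQ _)
      rw [hl, h1, Nat.cast_add, Nat.cast_one, add_comm] at h2
      exact (WithTop.add_left_cancel (ENat.coe_ne_top 1) h2).symm
    obtain ⟨φ, hφ, hne⟩ := exists_isDet_ne_zero l (M ⧸ R ∙ x) hlen (delPivot e hp) hspan'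
    refine ⟨extendDet x φ, isDet_extendDet hx φ hl hx0 hφ, ?_⟩
    rw [extendDet_eq hx φ e he hp, Fin.val_zero, pow_zero, map_one, one_mul, one_mul]
    exact hne

theorem exists_linearMap_ne_zero {l : ℕ} (hl : Module.length R M = l) (e : Adm R M l)
    (he : Submodule.span R (Set.range e.1) = ⊤) :
    (Submodule.Quotient.mk (sym R M e) : DetOfLen R M l) ≠ 0 := by
  obtain ⟨φ, hφ, hne⟩ := exists_isDet_ne_zero l M hl e he
  exact fun h => hne (by rw [← hφ.lift_mk, h, map_zero])

end Groth.Agent.CycDetLib
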