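import Mathlib
import Groth.Agent.CycDetLib.Basic

/-!
# Elementary changes of admissible tuples connect all strict tuples
-/

set_option autoImplicit false

universe u v

namespace Groth.Agent.CycDetLib

open CycDet IsLocalRing

variable {R : Type u} [CommRing R] [IsLocalRing R] {M : Type v} [AddCommGroup M] [Module R M]

/-- Any tuple spanning a strict one is reached from it by elementary changes. -/
theorem induction_of_strict {l : ℕ} {P : Adm R M l → Prop} (f : Adm R M l) (hf : Strict (R := R) f.1) (hPf : P f)
    (hscale : ∀ (e e' : Adm R M l) (a : Fin l) (c : Rˣ), (∀ j, j ≠ a → e.1 j = e'.1 j) →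
      e.1 a - (c : R) • e'.1 a ∈ spanBefore R M e.1 a → P e → P e')
    (hswap : ∀ (e e' : Adm R M l) (a b : Fin l), (b : ℕ) + 1 = (a : ℕ) →
      (∀ r ∈ maximalIdeal R, r • e.1 a ∈ spanBefore R M e.1 b) →
      e'.1 = e.1 ∘ Equiv.swap a b → P e' → P e)
    (e : Adm R M l) (hfe : ∀ i, f.1 i ∈ Submodule.span R (Set.range e.1)) : P e := by
  suffices ∀ (n k : ℕ), k + n = l → ∀ e : Adm R M l, (∀ i, f.1 i ∈ Submodule.span R (Set.range e.1)) →
      (∀ j : Fin l, (j : ℕ) < k → e.1 j = f.1 j) → P e from
    this l 0 (by simp) e hfe (by simp)
  intro n
  induction n with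
  | zero =>
    intro k hk e _ h
    rw [Subtype.ext (funext fun j => h j (by omega) : e.1 = f.1)]
    exact hPf
  | succ n IH =>
    intro k hk e hfe h
    let K : Fin l := ⟨k, by omega⟩
    -- move `f K` down from position `p` to `k`
    have hdown : ∀ (d : ℕ) (p : Fin l), (p : ℕ) = k + d → ∀ e : Adm R M l,
        (∀ i, f.1 i ∈ Submodule.span R (Set.range e.1)) → (∀ j : Fin l, (j : ℕ) < k → e.1 j = f.1 j) →
        e.1 p = f.1 K → P e := by
      intro d
      induction d with
      | zero =>
        intro p hp e hfe h hep
        refine IH (k + 1) (by omega) e hfe fun j hj => ?_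
        rcases Nat.lt_or_eq_of_le (Nat.lt_succ_iff.mp hj) with h' | h'
        · exact h j h'
        · rw [show j = p from Fin.ext (by omega), hep]; exact congrArg f.1 (Fin.ext (by show k = (p : ℕ); omega))
      | succ d IHd =>
        intro p hp e hfe h hep
        let b : Fin l := ⟨k + d, by omega⟩
        have hbp : (b : ℕ) + 1 = p := by simp [b]; omega
        have hk' : spanBefore R M e.1 k = spanBefore R M f.1 k := spanBefore_congr h
        have hm : ∀ r ∈ maximalIdeal R, r • e.1 p ∈ spanBefore R M e.1 b := fun r hr => by
          rw [hep]
          exact spanBefore_mono e.1 (by simp [b]) (hk' ▸ f.2 K r hr)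
        have hlt : ∀ i : Fin l, (i : ℕ) ≤ b → spanBefore R M (e.1 ∘ Equiv.swap p b) i = spanBefore R M e.1 i := fun i hi =>
          spanBefore_congr fun j hj => congrArg e.1 (Equiv.swap_apply_of_ne_of_ne
            (fun h => by rw [h] at hj; omega) (fun h => by rw [h] at hj; omega))
        let e' : Adm R M l := ⟨e.1 ∘ Equiv.swap p b, fun i r hr => by
          rcases lt_trichotomy (i : ℕ) (b : ℕ) with hib | hib | hib
          · rw [hlt i hib.le, Function.comp_apply, Equiv.swap_apply_of_ne_of_ne
              (fun h => by rw [h] at hib; omega) (fun h => by rw [h] at hib; omega)]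
            exact e.2 i r hr
          · rw [show i = b from Fin.ext hib, hlt b le_rfl, Function.comp_apply, Equiv.swap_apply_right]
            exact hm r hr
          · by_cases hip : i = p
            · rw [hip, Function.comp_apply, Equiv.swap_apply_left]
              refine spanBefore_mono (i := (b : ℕ)) _ (by omega) ?_
              rw [hlt b le_rfl]
              exact e.2 b r hr
            · have hpi : (p : ℕ) < i := by
                have : (i : ℕ) ≠ p := fun h => hip (Fin.ext h)
                omega
              rw [Function.comp_apply, Equiv.swap_apply_of_ne_of_ne hip (fun h => by rw [h] at hpi; omega)]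
              have : spanBefore R M (e.1 ∘ Equiv.swap p b) i = spanBefore R M e.1 i := by
                refine congrArg (Submodule.span R) ?_
                rw [Set.image_comp]
                congr 1
                ext j
                constructor
                · rintro ⟨j', hj', rfl⟩
                  show ((Equiv.swap p b) j' : ℕ) < i
                  rw [Equiv.swap_apply_def]
                  split_ifs with h1 h2 <;> first | omega | exact hj'
                · intro hj'
                  refine ⟨Equiv.swap p b j, ?_, Equiv.swap_apply_self p b j⟩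
                  show ((Equiv.swap p b) j : ℕ) < i
                  rw [Equiv.swap_apply_def]
                  split_ifs with h1 h2 <;> first | omega | exact hj'
              rw [this]
              exact e.2 i r hr⟩
        have hc := IHd b (by simp [b]) e'
          (fun i => by show f.1 i ∈ Submodule.span R (Set.range (e.1 ∘ Equiv.swap p b)); rw [EquivLike.range_comp]; exact hfe i)
          (fun j hj => by
            show e.1 (Equiv.swap p b j) = f.1 j
            rw [Equiv.swap_apply_of_ne_of_ne (fun h => by rw [h] at hj; omega) (fun h => by rw [h] at hj; simp [b] at hj)]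
            exact h j hj)
          (by show e.1 (Equiv.swap p b b) = f.1 K; rw [Equiv.swap_apply_right, hep])
        exact hswap e e' p b hbp hm rfl hc
    classical
    have hk' : spanBefore R M e.1 k = spanBefore R M f.1 k := spanBefore_congr h
    have hex : ∃ i, f.1 K ∈ spanBefore R M e.1 i := ⟨l, by rw [spanBefore_top]; exact hfe K⟩
    have hi0 : k < Nat.find hex := by
      by_contra hle
      exact hf K (show f.1 K ∈ spanBefore R M f.1 k from hk' ▸ spanBefore_mono (R := R) e.1 (not_lt.mp hle) (Nat.find_spec hex))
    have hil : Nat.find hex ≤ l := Nat.find_min' hex (by rw [spanBefore_top]; exact hfe K)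
    let p : Fin l := ⟨Nat.find hex - 1, by omega⟩
    have hp1 : (p : ℕ) + 1 = Nat.find hex := by simp [p]; omega
    have hpk : k ≤ (p : ℕ) := by omega
    have hmem := Nat.find_spec hex
    rw [← hp1, spanBefore_succ, Submodule.mem_sup] at hmem
    obtain ⟨y, hy, w, hw, hyw⟩ := hmem
    obtain ⟨r, rfl⟩ := Submodule.mem_span_singleton.mp hw
    obtain ⟨c, rfl⟩ := isUnit_of_smul_notMem (e.2 p) fun hr =>
      Nat.find_min hex (show (p : ℕ) < Nat.find hex by omega) (hyw ▸ add_mem hy hr)
    have hne : ∀ j : Fin l, j ≠ p → Function.update e.1 p (f.1 K) j = e.1 j := fun j hj => Function.update_of_ne hj _ _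
    have h2 : Function.update e.1 p (f.1 K) p - (c : R) • e.1 p ∈ spanBefore R M (Function.update e.1 p (f.1 K)) p := by
      rw [Function.update_self, spanBefore_congr fun j hj => hne j fun h => absurd hj (by simp [h]), ← hyw, add_sub_cancel_right]
      exact hy
    have hsp := spanBefore_eq_of_scale c hne h2
    let e' : Adm R M l := ⟨Function.update e.1 p (f.1 K), fun i s hs => by
      rw [hsp]
      by_cases hip : i = p
      · rw [hip, Function.update_self]
        exact spanBefore_mono e.1 hpk (hk' ▸ f.2 K s hs)
      · rw [hne i hip]
        exact e.2 i s hs⟩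
    have hd := hdown ((p : ℕ) - k) p (by omega) e'
      (fun i => by rw [← spanBefore_top, show spanBefore R M e'.1 l = spanBefore R M e.1 l from hsp l, spanBefore_top]; exact hfe i)
      (fun j hj => (hne j fun h => by rw [h] at hj; omega).trans (h j hj))
      (Function.update_self _ _ _)
    exact hscale e' e p c hne h2 hd

end Groth.Agent.CycDetLib
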