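import Mathlib
import Groth.Agent.CycDetLib.Induct
import Groth.Agent.CycDetLib.Exists
import Groth.Agent.LatticeLib24.Dist

/-!
# Lattice indices and ratios of symbols over a prime of coheight one
-/

set_option autoImplicit false

universe u

namespace Groth.Agent.CycDetLib

open CycDet IsLocalRing Groth.Agent.CycAlgLib

section Step

variable {R : Type u} [CommRing R] {V : Type u} [AddCommGroup V] [Module R V]

theorem rlen_step (S S' : Submodule R V) (hS : S' ≤ S) (v : V) (t : R) (P : Ideal R)
    (h1 : ∀ r ∈ P, r • v ∈ S) (h2 : ∀ r ∈ P, r • t • v ∈ S') (h3 : ∀ r : R, r • v ∈ S → r ∈ P) (hP : P.IsPrime)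
    (ht : t ∉ P) :
    rlen (S ⊔ R ∙ v) (S' ⊔ R ∙ (t • v)) = rlen S S' + Ring.ord (R ⧸ P) (Ideal.Quotient.mk P t) := by
  have htv : (R ∙ (t • v)) ≤ R ∙ v :=
    (Submodule.span_singleton_le_iff_mem _ _).mpr (Submodule.smul_mem _ _ (Submodule.mem_span_singleton_self v))
  rw [rlen_trans (A := S ⊔ R ∙ v) (C := S ⊔ R ∙ (t • v)) (sup_le_sup_right hS _) (sup_le_sup_left htv _), add_comm]
  congr 1
  · rw [show S ⊔ R ∙ (t • v) = S ⊔ (S' ⊔ R ∙ (t • v)) by rw [← sup_assoc, sup_eq_left.mpr hS], rlen_sup,
      ← rlen_inf S (S' ⊔ R ∙ (t • v))]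
    congr 1
    refine le_antisymm ?_ (le_inf hS le_sup_left)
    rintro z ⟨hzS, hz⟩
    obtain ⟨a, ha, w, hw, rfl⟩ := Submodule.mem_sup.mp hz
    obtain ⟨r, rfl⟩ := Submodule.mem_span_singleton.mp hw
    have h : (r * t) • v ∈ S := by
      rw [mul_smul]
      exact (Submodule.add_mem_iff_right _ (hS ha)).mp hzS
    exact add_mem ha (h2 r ((hP.mem_or_mem (h3 _ h)).resolve_right ht))
  · let q : R →ₗ[R] ↥(S ⊔ R ∙ v) ⧸ (S ⊔ R ∙ (t • v)).submoduleOf (S ⊔ R ∙ v) :=
      LinearMap.toSpanSingleton R _ (Submodule.Quotient.mk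
        (⟨v, Submodule.mem_sup_right (Submodule.mem_span_singleton_self v)⟩ : ↥(S ⊔ R ∙ v)))
    have hq : Function.Surjective q := by
      intro z
      obtain ⟨⟨z, hz⟩, rfl⟩ := Submodule.Quotient.mk_surjective _ z
      obtain ⟨a, ha, w, hw, rfl⟩ := Submodule.mem_sup.mp hz
      obtain ⟨r, rfl⟩ := Submodule.mem_span_singleton.mp hw
      refine ⟨r, ?_⟩
      rw [LinearMap.toSpanSingleton_apply, ← Submodule.Quotient.mk_smul, Submodule.Quotient.eq]
      show r • v - (a + r • v) ∈ S ⊔ R ∙ (t • v)
      simpa using Submodule.mem_sup_left ha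
    have hk : LinearMap.ker q = P ⊔ Ideal.span {t} := by
      ext r
      rw [LinearMap.mem_ker, LinearMap.toSpanSingleton_apply, ← Submodule.Quotient.mk_smul,
        Submodule.Quotient.mk_eq_zero]
      show r • v ∈ S ⊔ R ∙ (t • v) ↔ _
      constructor
      · intro h
        obtain ⟨a, ha, w, hw, e⟩ := Submodule.mem_sup.mp h
        obtain ⟨c, rfl⟩ := Submodule.mem_span_singleton.mp hw
        have h' : (r - c * t) • v ∈ S := by
          rw [sub_smul, mul_smul, ← e, add_sub_cancel_right]
          exact ha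
        rw [← sub_add_cancel r (c * t)]
        exact Submodule.add_mem_sup (h3 _ h') (Ideal.mul_mem_left _ _ (Ideal.mem_span_singleton_self t))
      · intro h
        obtain ⟨p, hp, w, hw, rfl⟩ := Submodule.mem_sup.mp h
        obtain ⟨c, rfl⟩ := Ideal.mem_span_singleton'.mp hw
        rw [add_smul, mul_smul]
        exact Submodule.add_mem_sup (h1 p hp) (Submodule.smul_mem _ c (Submodule.mem_span_singleton_self _))
    have e1 : Module.length R (R ⧸ (P ⊔ Ideal.span {t})) = Ring.ord (R ⧸ P) (Ideal.Quotient.mk P t) := by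
      rw [Ring.ord, ← Module.length_eq_of_surjective (S := R) (R := R ⧸ P) Ideal.Quotient.mk_surjective]
      refine ((Submodule.quotientQuotientEquivQuotient P (P ⊔ Ideal.span {t}) le_sup_left).symm.trans
        (Submodule.quotEquivOfEq _ (Submodule.restrictScalars R (Ideal.span {Ideal.Quotient.mk P t})) ?_)).length_eq.trans
        (Submodule.Quotient.restrictScalarsEquiv R (Ideal.span {Ideal.Quotient.mk P t})).length_eq
      refine le_antisymm ?_ ?_
      · rintro _ ⟨y, hy, rfl⟩
        obtain ⟨a, ha, w, hw, rfl⟩ := Submodule.mem_sup.mp hy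
        obtain ⟨c, rfl⟩ := Ideal.mem_span_singleton'.mp hw
        refine Ideal.mem_span_singleton'.mpr ⟨Ideal.Quotient.mk P c, ?_⟩
        rw [← map_mul]
        exact Ideal.Quotient.eq.mpr (by simpa using neg_mem ha)
      · intro z hz
        obtain ⟨c, rfl⟩ := Ideal.mem_span_singleton'.mp hz
        obtain ⟨c, rfl⟩ := Ideal.Quotient.mk_surjective c
        exact ⟨c * t, Submodule.mem_sup_right (Ideal.mul_mem_left _ _ (Ideal.mem_span_singleton_self t)), rfl⟩
    rw [rlen, ← ((Submodule.quotEquivOfEq _ _ hk.symm).trans (LinearMap.quotKerEquivOfSurjective q hq)).length_eq, e1]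

end Step

section Lattice

variable {R : Type u} [CommRing R] [IsNoetherianRing R] [IsLocalRing R] {P : Ideal R} [P.IsPrime]
  {V : Type u} [AddCommGroup V] [Module R V] [Module (Localization.AtPrime P) V]
  [IsScalarTower R (Localization.AtPrime P) V] {l : ℕ}

/-- `s` scales the tuple `e` into `M` so that it becomes a filtration with quotients `R ⧸ P`. -/
def Good (M : Submodule R V) (e : Fin l → V) (s : Fin l → R) : Prop :=
  (∀ i, s i ∉ P) ∧ (∀ i, s i • e i ∈ M) ∧ ∀ i : Fin l, ∀ r ∈ P, r • s i • e i ∈ spanBefore R V (fun j ↦ s j • e j) i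

/-- The index of a scaled tuple, corrected by the scaling. -/
noncomputable def index (M : Submodule R V) (e : Fin l → V) (s : Fin l → R) : ℤ :=
  ((rlen M (spanBefore R V (fun j ↦ s j • e j) l)).toNat : ℤ) -
    ∑ i, CycAlg.ordFrac (R ⧸ P) P.ResidueField (algebraMap R P.ResidueField (s i))

theorem isUnit_algebraMap {r : R} (hr : r ∉ P) : IsUnit (algebraMap R (Localization.AtPrime P) r) :=
  IsLocalization.map_units _ (⟨r, hr⟩ : P.primeCompl)

theorem spanBefore_scale_le (e : Fin l → V) (s : Fin l → R) (i : ℕ) :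
    spanBefore R V (fun j ↦ s j • e j) i ≤ (spanBefore (Localization.AtPrime P) V e i).restrictScalars R := by
  rw [spanBefore, Submodule.span_le]
  rintro _ ⟨j, hj, rfl⟩
  change s j • e j ∈ spanBefore (Localization.AtPrime P) V e i
  rw [← IsScalarTower.algebraMap_smul (Localization.AtPrime P) (s j)]
  exact Submodule.smul_mem _ _ (mem_spanBefore e hj)

theorem mem_of_smul_mem_span (e : Fin l → V) (he : Strict (R := Localization.AtPrime P) e) (s : Fin l → R)
    (hs : ∀ i, s i ∉ P) (i : Fin l) (r : R) (h : r • s i • e i ∈ spanBefore R V (fun j ↦ s j • e j) i) : r ∈ P := by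
  by_contra hr
  have h' := spanBefore_scale_le (P := P) e s i h
  rw [Submodule.restrictScalars_mem, smul_smul, ← IsScalarTower.algebraMap_smul (Localization.AtPrime P) (r * s i),
    map_mul] at h'
  exact he i ((Submodule.smul_mem_iff_of_isUnit _ ((isUnit_algebraMap hr).mul (isUnit_algebraMap (hs i)))).mp h')

theorem exists_clear (e : Fin l → V) (s : Fin l → R) (hs : ∀ i, s i ∉ P) (i : ℕ) (v : V)
    (hv : v ∈ spanBefore (Localization.AtPrime P) V e i) :
    ∃ u : R, u ∉ P ∧ u • v ∈ spanBefore R V (fun j ↦ s j • e j) i := by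
  induction hv using Submodule.span_induction with
  | mem x hx =>
    obtain ⟨j, hj, rfl⟩ := hx
    exact ⟨s j, hs j, mem_spanBefore (R := R) (fun j ↦ s j • e j) hj⟩
  | zero => exact ⟨1, Ideal.IsPrime.one_notMem inferInstance, by simp⟩
  | add x y _ _ hx hy =>
    obtain ⟨u, hu, hux⟩ := hx
    obtain ⟨w, hw, hwy⟩ := hy
    refine ⟨u * w, fun h ↦ (Ideal.IsPrime.mem_or_mem inferInstance h).elim hu hw, ?_⟩
    rw [smul_add]
    refine add_mem ?_ ?_
    · rw [mul_comm, mul_smul]; exact Submodule.smul_mem _ _ hux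
    · rw [mul_smul]; exact Submodule.smul_mem _ _ hwy
  | smul a x _ hx =>
    obtain ⟨u, hu, hux⟩ := hx
    obtain ⟨c, d, rfl⟩ := IsLocalization.exists_mk'_eq P.primeCompl a
    refine ⟨u * d, fun h ↦ (Ideal.IsPrime.mem_or_mem inferInstance h).elim hu d.2, ?_⟩
    rw [mul_smul, ← IsScalarTower.algebraMap_smul (Localization.AtPrime P) (d : R), smul_smul,
      IsLocalization.mk'_spec', IsScalarTower.algebraMap_smul, smul_comm]
    exact Submodule.smul_mem _ _ hux

/-- Scalings can be chosen inductively so that prescribed elements are cleared. -/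
theorem exists_scaling (M : Submodule R V) (e : Fin l → V) (hM : ∀ i, ∃ u ∉ P, u • e i ∈ M) (s₀ : Fin l → R)
    (hs₀ : ∀ i, s₀ i ∉ P) (β : Fin l → ℕ) (hβ : ∀ i, β i ≤ (i : ℕ)) (W : Fin l → Finset V)
    (hW : ∀ i, ∀ w ∈ W i, w ∈ spanBefore (Localization.AtPrime P) V e (β i)) :
    ∃ u : Fin l → R, (∀ i, u i ∉ P) ∧ (∀ i, (u i * s₀ i) • e i ∈ M) ∧
      ∀ i, ∀ w ∈ W i, u i • w ∈ spanBefore R V (fun j ↦ (u j * s₀ j) • e j) (β i) := by
  classical
  suffices h : ∀ n ≤ l, ∃ u : Fin l → R, (∀ i, u i ∉ P) ∧ ∀ i : Fin l, (i : ℕ) < n →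
      (u i * s₀ i) • e i ∈ M ∧ ∀ w ∈ W i, u i • w ∈ spanBefore R V (fun j ↦ (u j * s₀ j) • e j) (β i) by
    obtain ⟨u, h1, h2⟩ := h l le_rfl
    exact ⟨u, h1, fun i ↦ (h2 i i.2).1, fun i ↦ (h2 i i.2).2⟩
  intro n
  induction n with
  | zero => exact fun _ ↦ ⟨fun _ ↦ 1, fun _ ↦ Ideal.IsPrime.one_notMem inferInstance, fun i hi ↦ absurd hi (by omega)⟩
  | succ n IH =>
    intro hn
    obtain ⟨u, hu, hgood⟩ := IH (by omega)
    have hus : ∀ j, u j * s₀ j ∉ P := fun j h ↦ (Ideal.IsPrime.mem_or_mem inferInstance h).elim (hu j) (hs₀ j)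
    let I : Fin l := ⟨n, hn⟩
    choose c hc using fun w : W I ↦ exists_clear e (fun j ↦ u j * s₀ j) hus (β I) w.1 (hW I w.1 w.2)
    obtain ⟨m, hm, hmM₀⟩ := hM I
    have hmM : m • s₀ I • e I ∈ M := by rw [smul_comm]; exact Submodule.smul_mem _ _ hmM₀
    let U : R := m * ∏ w : W I, c w
    have hU : U ∉ P := fun h ↦ by
      rcases Ideal.IsPrime.mem_or_mem inferInstance h with h | h
      · exact hm h
      · obtain ⟨w, -, hw⟩ := (Ideal.IsPrime.prod_mem_iff (hp := inferInstance)).mp h
        exact (hc w).1 hw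
    refine ⟨Function.update u I U, fun i ↦ ?_, fun i hi ↦ ?_⟩
    · by_cases h : i = I
      · rw [h, Function.update_self]; exact hU
      · rw [Function.update_of_ne h]; exact hu i
    · have hspan : spanBefore R V (fun j ↦ (Function.update u I U j * s₀ j) • e j) (β i) =
          spanBefore R V (fun j ↦ (u j * s₀ j) • e j) (β i) := spanBefore_congr fun j hj ↦ by
        have hne : j ≠ I := fun h ↦ by
          have h1 := hβ i
          subst h
          simp only [I] at hj
          omega
        rw [Function.update_of_ne hne]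
      rcases Nat.lt_or_eq_of_le (Nat.lt_succ_iff.mp hi) with h | h
      · have hne : i ≠ I := fun e ↦ by subst e; exact lt_irrefl _ h
        rw [Function.update_of_ne hne, hspan]
        exact hgood i h
      · obtain rfl : i = I := Fin.ext h
        rw [Function.update_self, hspan]
        refine ⟨?_, fun w hw ↦ ?_⟩
        · rw [show U * s₀ I = (∏ w : W I, c w) * (m * s₀ I) by simp only [U]; ring, mul_smul, mul_smul m]
          exact Submodule.smul_mem _ _ hmM
        · obtain ⟨k, hk⟩ := Dvd.dvd.mul_left (Finset.dvd_prod_of_mem c (Finset.mem_univ (⟨w, hw⟩ : W I))) m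
          rw [show U = k * c ⟨w, hw⟩ by simp only [U]; rw [hk]; ring, mul_smul]
          exact Submodule.smul_mem _ _ (hc ⟨w, hw⟩).2

theorem smul_mem_of_mem (e : Adm (Localization.AtPrime P) V l) (i : Fin l) (r : R) (hr : r ∈ P) :
    r • e.1 i ∈ spanBefore (Localization.AtPrime P) V e.1 i := by
  rw [← IsScalarTower.algebraMap_smul (Localization.AtPrime P) r]
  exact e.2 i _ ((IsLocalization.AtPrime.to_map_mem_maximal_iff _ P r).mpr hr)

/-- Good scalings exist above any given one, clearing extra elements. -/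
theorem exists_good (M : Submodule R V) (e : Adm (Localization.AtPrime P) V l) (hM : ∀ i, ∃ u ∉ P, u • e.1 i ∈ M)
    (s₀ : Fin l → R) (hs₀ : ∀ i, s₀ i ∉ P) (β : Fin l → ℕ) (hβ : ∀ i, β i ≤ (i : ℕ))
    (hβe : ∀ i, ∀ r ∈ P, r • e.1 i ∈ spanBefore (Localization.AtPrime P) V e.1 (β i))
    (W : Fin l → Finset V) (hW : ∀ i, ∀ w ∈ W i, w ∈ spanBefore (Localization.AtPrime P) V e.1 (β i)) :
    ∃ u : Fin l → R, (∀ i, u i ∉ P) ∧ Good (P := P) M e.1 (fun j ↦ u j * s₀ j) ∧
      (∀ i, ∀ r ∈ P, r • (u i * s₀ i) • e.1 i ∈ spanBefore R V (fun j ↦ (u j * s₀ j) • e.1 j) (β i)) ∧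
      ∀ i, ∀ w ∈ W i, u i • w ∈ spanBefore R V (fun j ↦ (u j * s₀ j) • e.1 j) (β i) := by
  classical
  obtain ⟨G, hG⟩ := (IsNoetherian.noetherian P : P.FG)
  obtain ⟨u, hu, huM, huW⟩ := exists_scaling M e.1 hM s₀ hs₀ β hβ
    (fun i ↦ W i ∪ G.image fun g ↦ (g * s₀ i) • e.1 i) (fun i w hw ↦ by
      rcases Finset.mem_union.mp hw with hw | hw
      · exact hW i w hw
      · obtain ⟨g, hg, rfl⟩ := Finset.mem_image.mp hw
        exact hβe i _ (Ideal.mul_mem_right _ _ (hG ▸ Submodule.subset_span hg)))
  have key : ∀ i, ∀ r ∈ P, r • (u i * s₀ i) • e.1 i ∈ spanBefore R V (fun j ↦ (u j * s₀ j) • e.1 j) (β i) := by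
    intro i r hr
    rw [← hG] at hr
    induction hr using Submodule.span_induction with
    | mem g hg =>
      rw [smul_smul, show g * (u i * s₀ i) = u i * (g * s₀ i) by ring, mul_smul]
      exact huW i _ (Finset.mem_union_right _ (Finset.mem_image_of_mem _ hg))
    | zero => simp
    | add a b _ _ ha hb => rw [add_smul]; exact add_mem ha hb
    | smul c a _ ha => rw [smul_eq_mul, mul_smul]; exact Submodule.smul_mem _ _ ha
  exact ⟨u, hu, ⟨fun i h ↦ (Ideal.IsPrime.mem_or_mem inferInstance h).elim (hu i) (hs₀ i), huM,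
    fun i r hr ↦ spanBefore_mono _ (hβ i) (key i r hr)⟩, key, fun i w hw ↦ huW i w (Finset.mem_union_left _ hw)⟩

theorem algebraMap_residue_ne_zero {s : R} (hs : s ∉ P) : algebraMap R P.ResidueField s ≠ 0 := by
  rwa [Ne, Ideal.algebraMap_residueField_eq_zero]

theorem krullDimLE_quot (hP : ringKrullDim (R ⧸ P) = 1) : Ring.KrullDimLE 1 (R ⧸ P) := by
  rw [Ring.krullDimLE_iff, hP]
  rfl

theorem ord_quot (hP : ringKrullDim (R ⧸ P) = 1) {t : R} (ht : t ∉ P) :
    Ring.ord (R ⧸ P) (Ideal.Quotient.mk P t) ≠ ⊤ ∧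
      CycAlg.ordFrac (R ⧸ P) P.ResidueField (algebraMap R P.ResidueField t) =
        ((Ring.ord (R ⧸ P) (Ideal.Quotient.mk P t)).toNat : ℤ) := by
  haveI := krullDimLE_quot hP
  have hne : Ideal.Quotient.mk P t ≠ 0 := fun h ↦ ht (Ideal.Quotient.eq_zero_iff_mem.mp h)
  exact ⟨Ring.ord_ne_top (mem_nonZeroDivisors_of_ne_zero hne),
    (congrArg (CycAlg.ordFrac (R ⧸ P) P.ResidueField) (IsScalarTower.algebraMap_apply R (R ⧸ P) P.ResidueField t)).trans
      (LatticeLib24.ordFrac_algebraMap _ _ hne)⟩

theorem rlen_span_scale (hP : ringKrullDim (R ⧸ P) = 1) (M : Submodule R V) (e : Fin l → V)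
    (he : Strict (R := Localization.AtPrime P) e) (s t : Fin l → R) (hs : Good (P := P) M e s)
    (ht : ∀ i, t i ∉ P) (hts : Good (P := P) M e (fun j ↦ t j * s j)) : ∀ i ≤ l,
    spanBefore R V (fun j ↦ (t j * s j) • e j) i ≤ spanBefore R V (fun j ↦ s j • e j) i ∧
    rlen (spanBefore R V (fun j ↦ s j • e j) i) (spanBefore R V (fun j ↦ (t j * s j) • e j) i) ≠ ⊤ ∧
    ((rlen (spanBefore R V (fun j ↦ s j • e j) i) (spanBefore R V (fun j ↦ (t j * s j) • e j) i)).toNat : ℤ) =
      ∑ j ∈ Finset.univ.filter (fun j : Fin l ↦ (j : ℕ) < i),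
        CycAlg.ordFrac (R ⧸ P) P.ResidueField (algebraMap R P.ResidueField (t j)) := by
  intro i
  induction i with
  | zero =>
    intro _
    simp [spanBefore_zero, rlen_eq_zero]
  | succ i IH =>
    intro hi
    obtain ⟨hle, hfin, hval⟩ := IH (by omega)
    let I : Fin l := ⟨i, hi⟩
    have e1 : spanBefore R V (fun j ↦ (t j * s j) • e j) (i + 1) =
        spanBefore R V (fun j ↦ (t j * s j) • e j) i ⊔ R ∙ (t I • s I • e I) :=
      (spanBefore_succ (fun j ↦ (t j * s j) • e j) I).trans (by rw [mul_smul])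
    have e2 : spanBefore R V (fun j ↦ s j • e j) (i + 1) =
        spanBefore R V (fun j ↦ s j • e j) i ⊔ R ∙ (s I • e I) := spanBefore_succ (fun j ↦ s j • e j) I
    have hstep := rlen_step _ _ hle (s I • e I) (t I) P (fun r hr ↦ hs.2.2 I r hr)
      (fun r hr ↦ by rw [← mul_smul (t I)]; exact hts.2.2 I r hr)
      (fun r hr ↦ mem_of_smul_mem_span e he s hs.1 I r hr) inferInstance (ht I)
    obtain ⟨o1, o2⟩ := ord_quot hP (ht I)
    rw [e1, e2]
    refine ⟨sup_le_sup hle ((Submodule.span_singleton_le_iff_mem _ _).mpr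
      (Submodule.smul_mem _ _ (Submodule.mem_span_singleton_self _))), ?_, ?_⟩
    · rw [hstep]
      exact WithTop.add_ne_top.mpr ⟨hfin, o1⟩
    · rw [hstep, ENat.toNat_add hfin o1, Nat.cast_add, hval, ← o2,
        show (Finset.univ.filter fun j : Fin l ↦ (j : ℕ) < i + 1) =
          insert I (Finset.univ.filter fun j : Fin l ↦ (j : ℕ) < i) from by
          ext j
          simp only [Finset.mem_filter, Finset.mem_univ, true_and, Finset.mem_insert, Fin.ext_iff, I]
          omega,
        Finset.sum_insert (by simp [I]), add_comm]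

theorem rlen_top_span (hP : ringKrullDim (R ⧸ P) = 1) (M : Submodule R V) (hMfg : M.FG)
    (e : Adm (Localization.AtPrime P) V l)
    (htop : M ≤ (Submodule.span (Localization.AtPrime P) (Set.range e.1)).restrictScalars R)
    (s : Fin l → R) (hs : Good (P := P) M e.1 s) :
    spanBefore R V (fun j ↦ s j • e.1 j) l ≤ M ∧ rlen M (spanBefore R V (fun j ↦ s j • e.1 j) l) < ⊤ := by
  haveI := krullDimLE_quot hP
  refine ⟨by rw [spanBefore_top, Submodule.span_le]; rintro _ ⟨j, rfl⟩; exact hs.2.1 j, ?_⟩
  haveI : Module.Finite R M := Module.Finite.iff_fg.mpr hMfg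
  refine length_lt_top_of_support_subset ?_
  intro p hp
  obtain ⟨m, hm⟩ := Module.mem_support_iff'.mp hp
  obtain ⟨m, rfl⟩ := Submodule.Quotient.mk_surjective _ m
  by_contra hne
  by_cases hPp : P ≤ p.asIdeal
  · have hp' : p.asIdeal = P := by
      by_contra h
      have hlt : P < p.asIdeal := lt_of_le_of_ne hPp fun e ↦ h e.symm
      have hne' : p.asIdeal.map (Ideal.Quotient.mk P) ≠ ⊥ := fun hb ↦ hlt.not_ge (by
        rwa [Ideal.map_eq_bot_iff_le_ker, Ideal.mk_ker] at hb)
      haveI : (p.asIdeal.map (Ideal.Quotient.mk P)).IsPrime :=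
        Ideal.map_isPrime_of_surjective Ideal.Quotient.mk_surjective (by rwa [Ideal.mk_ker])
      have hmax := Ring.krullDimLE_one_iff_of_noZeroDivisors.mp (inferInstance : Ring.KrullDimLE 1 (R ⧸ P)) _ hne' inferInstance
      have hmax' := Ideal.comap_isMaximal_of_surjective (Ideal.Quotient.mk P) Ideal.Quotient.mk_surjective
        (K := p.asIdeal.map (Ideal.Quotient.mk P))
      rw [Ideal.comap_map_of_surjective _ Ideal.Quotient.mk_surjective, ← RingHom.ker_eq_comap_bot, Ideal.mk_ker,
        sup_eq_left.mpr hPp] at hmax'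
      exact hne (PrimeSpectrum.ext (IsLocalRing.eq_maximalIdeal hmax'))
    obtain ⟨u, hu, hum⟩ := exists_clear e.1 s hs.1 l (m : V)
      (by rw [spanBefore_top]; exact htop m.2)
    refine hm u (hp' ▸ hu) ?_
    rw [← Submodule.Quotient.mk_smul, Submodule.Quotient.mk_eq_zero]
    exact hum
  · obtain ⟨a, ha, hap⟩ := Set.not_subset.mp hPp
    have hz : ∀ i : ℕ, i ≤ l → ∀ v ∈ spanBefore (Localization.AtPrime P) V e.1 i, a ^ i • v = 0 := by
      intro i
      induction i with
      | zero => intro _ v hv; rw [spanBefore_zero, Submodule.mem_bot] at hv; simp [hv]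
      | succ i IH =>
        intro hi v hv
        rw [spanBefore_succ e.1 ⟨i, hi⟩, Submodule.mem_sup] at hv
        obtain ⟨y, hy, w, hw, rfl⟩ := hv
        obtain ⟨c, rfl⟩ := Submodule.mem_span_singleton.mp hw
        rw [pow_succ, mul_smul, smul_add]
        refine IH (by omega) _ (add_mem ?_ ?_)
        · rw [← IsScalarTower.algebraMap_smul (Localization.AtPrime P) a]
          exact Submodule.smul_mem _ _ hy
        · rw [smul_comm]
          exact Submodule.smul_mem _ _ (smul_mem_of_mem e ⟨i, hi⟩ a ha)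
    refine hm (a ^ l) (fun h ↦ hap (p.isPrime.mem_of_pow_mem l h)) ?_
    rw [← Submodule.Quotient.mk_smul, Submodule.Quotient.mk_eq_zero]
    rw [Submodule.submoduleOf, Submodule.mem_comap, map_smul, Submodule.subtype_apply]
    rw [hz l le_rfl _ (by rw [spanBefore_top]; exact htop m.2)]
    exact zero_mem _

/-- The corrected index does not depend on the scaling. -/
theorem index_eq_of_mul (hP : ringKrullDim (R ⧸ P) = 1) (M : Submodule R V) (hMfg : M.FG)
    (e : Adm (Localization.AtPrime P) V l)
    (htop : M ≤ (Submodule.span (Localization.AtPrime P) (Set.range e.1)).restrictScalars R)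
    (he : Strict (R := Localization.AtPrime P) e.1) (s t : Fin l → R) (hs : Good (P := P) M e.1 s) (ht : ∀ i, t i ∉ P)
    (hts : Good (P := P) M e.1 (fun j ↦ t j * s j)) :
    index (P := P) M e.1 (fun j ↦ t j * s j) = index (P := P) M e.1 s := by
  haveI := krullDimLE_quot hP
  obtain ⟨hle, hfin, hval⟩ := rlen_span_scale hP M e.1 he s t hs ht hts l le_rfl
  obtain ⟨hM, hMfin⟩ := rlen_top_span hP M hMfg e htop s hs
  rw [Finset.filter_true_of_mem fun j _ ↦ j.2] at hval
  simp only [index]
  rw [rlen_trans hle hM, ENat.toNat_add hMfin.ne hfin, Nat.cast_add, hval]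
  simp only [map_mul]
  rw [Finset.sum_congr rfl fun j _ ↦ LatticeLib24.ordFrac_mul (R ⧸ P) P.ResidueField
    (algebraMap_residue_ne_zero (ht j)) (algebraMap_residue_ne_zero (hs.1 j)), Finset.sum_add_distrib]
  ring

theorem index_congr (hP : ringKrullDim (R ⧸ P) = 1) (M : Submodule R V) (hMfg : M.FG)
    (e : Adm (Localization.AtPrime P) V l)
    (htop : M ≤ (Submodule.span (Localization.AtPrime P) (Set.range e.1)).restrictScalars R)
    (hM : ∀ i, ∃ u ∉ P, u • e.1 i ∈ M) (he : Strict (R := Localization.AtPrime P) e.1) (s s' : Fin l → R) (hs : Good (P := P) M e.1 s)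
    (hs' : Good (P := P) M e.1 s') : index (P := P) M e.1 s = index (P := P) M e.1 s' := by
  obtain ⟨u, hu, hg, -, -⟩ := exists_good M e hM (fun j ↦ s j * s' j)
    (fun j h ↦ (Ideal.IsPrime.mem_or_mem inferInstance h).elim (hs.1 j) (hs'.1 j)) (fun i ↦ i) (fun _ ↦ le_rfl)
    (fun i r hr ↦ smul_mem_of_mem e i r hr) (fun _ ↦ ∅) (by simp)
  have hm : ∀ {a b : R}, a ∉ P → b ∉ P → a * b ∉ P := fun ha hb h ↦ (Ideal.IsPrime.mem_or_mem inferInstance h).elim ha hb
  rw [← index_eq_of_mul hP M hMfg e htop he s (fun j ↦ u j * s' j) hs (fun j ↦ hm (hu j) (hs'.1 j))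
      (by simpa only [mul_comm (s _) (s' _), mul_assoc] using hg),
    ← index_eq_of_mul hP M hMfg e htop he s' (fun j ↦ u j * s j) hs' (fun j ↦ hm (hu j) (hs.1 j))
      (by simpa only [mul_assoc] using hg)]
  congr 1
  funext j
  ring

theorem ordFrac_neg (hP : ringKrullDim (R ⧸ P) = 1) {x : P.ResidueField} (hx : x ≠ 0) :
    CycAlg.ordFrac (R ⧸ P) P.ResidueField (-x) = CycAlg.ordFrac (R ⧸ P) P.ResidueField x := by
  haveI := krullDimLE_quot hP
  have h1 := LatticeLib24.ordFrac_mul (R ⧸ P) P.ResidueField (x := (-1 : P.ResidueField)) (y := -1)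
    (neg_ne_zero.mpr one_ne_zero) (neg_ne_zero.mpr one_ne_zero)
  rw [neg_one_mul, neg_neg, LatticeLib24.ordFrac_one] at h1
  have h2 := LatticeLib24.ordFrac_mul (R ⧸ P) P.ResidueField (x := (-1 : P.ResidueField)) (y := x)
    (neg_ne_zero.mpr one_ne_zero) hx
  rw [neg_one_mul] at h2
  omega

theorem residue_algebraMap (s : R) :
    residue (Localization.AtPrime P) (algebraMap R (Localization.AtPrime P) s) = algebraMap R P.ResidueField s := rfl

/-- Two filtered tuples of a lattice: the difference of their colengths is the order of the ratio of their symbols. -/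
theorem index_symbol (hP : ringKrullDim (R ⧸ P) = 1) (M : Submodule R V) (hMfg : M.FG) (hM : ∀ v : V, ∃ u ∉ P, u • v ∈ M)
    (hl : Module.length (Localization.AtPrime P) V = l) (e f : Adm (Localization.AtPrime P) V l)
    (he : Strict (R := Localization.AtPrime P) e.1) (hf : Strict (R := Localization.AtPrime P) f.1)
    (r : P.ResidueField)
    (hr : (Submodule.Quotient.mk (sym (Localization.AtPrime P) V e) : DetOfLen (Localization.AtPrime P) V l) =
      r • Submodule.Quotient.mk (sym (Localization.AtPrime P) V f))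
    (s t : Fin l → R) (hs : Good (P := P) M e.1 s) (ht : Good (P := P) M f.1 t) :
    r ≠ 0 ∧ index (P := P) M e.1 s - index (P := P) M f.1 t = CycAlg.ordFrac (R ⧸ P) P.ResidueField r := by
  classical
  haveI := krullDimLE_quot hP
  have htop : ∀ e : Adm (Localization.AtPrime P) V l, Strict (R := Localization.AtPrime P) e.1 →
      Submodule.span (Localization.AtPrime P) (Set.range e.1) = ⊤ := fun e he ↦ span_eq_top_of_strict hl e he
  have hle : ∀ e : Adm (Localization.AtPrime P) V l, Strict (R := Localization.AtPrime P) e.1 →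
      M ≤ (Submodule.span (Localization.AtPrime P) (Set.range e.1)).restrictScalars R := fun e he ↦ by
    rw [htop e he]; exact fun _ _ ↦ Submodule.mem_top
  obtain ⟨g, hg, hgf⟩ := exists_isDet_ne_zero l V hl f (htop f hf)
  have hgne : ∀ e : Adm (Localization.AtPrime P) V l, Strict (R := Localization.AtPrime P) e.1 → g e ≠ 0 := fun e he h0 ↦ by
    obtain ⟨c, hc⟩ := hg.exists_smul' hl e he f
    exact hgf (by rw [hc, h0, smul_zero])
  have hmain : ∀ s, Good (P := P) M e.1 s → index (P := P) M e.1 s - CycAlg.ordFrac (R ⧸ P) P.ResidueField (g e) =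
      index (P := P) M f.1 t - CycAlg.ordFrac (R ⧸ P) P.ResidueField (g f) := by
    refine induction_of_strict (P := fun e ↦ Submodule.span (Localization.AtPrime P) (Set.range e.1) = ⊤ →
      ∀ s, Good (P := P) M e.1 s → index (P := P) M e.1 s - CycAlg.ordFrac (R ⧸ P) P.ResidueField (g e) =
        index (P := P) M f.1 t - CycAlg.ordFrac (R ⧸ P) P.ResidueField (g f)) f hf ?_ ?_ ?_ e
      (fun i ↦ htop e he ▸ Submodule.mem_top) (htop e he)
    · intro _ s hs
      rw [index_congr hP M hMfg f (hle f hf) (fun i ↦ hM _) hf s t hs ht]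
    · -- `a` is the changed entry, the hypothesis holds for `e`
      intro e e' a c h1 h2 IH htop' s hs
      have hsp := spanBefore_eq_of_scale c h1 h2
      have hetop : Submodule.span (Localization.AtPrime P) (Set.range e.1) = ⊤ := by
        rw [← spanBefore_top, hsp l, spanBefore_top, htop']
      have hes := strict_of_span_eq_top hl e hetop
      have he's := strict_of_span_eq_top hl e' htop'
      obtain ⟨p, d, hpd⟩ := IsLocalization.exists_mk'_eq P.primeCompl (c : Localization.AtPrime P)
      have hp : p ∉ P := fun h ↦ by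
        have := c.isUnit
        rw [← hpd] at this
        exact (IsLocalRing.mem_maximalIdeal _).mp ((IsLocalization.AtPrime.mk'_mem_maximal_iff _ P p d).mpr h) this
      let z := e.1 a - (c : Localization.AtPrime P) • e'.1 a
      have hdz : (d : R) • e.1 a = p • e'.1 a + (d : R) • z := by
        have : (d : R) • ((c : Localization.AtPrime P) • e'.1 a) = p • e'.1 a := by
          rw [← IsScalarTower.algebraMap_smul (Localization.AtPrime P) (d : R), smul_smul, ← hpd,
            IsLocalization.mk'_spec', IsScalarTower.algebraMap_smul]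
        rw [← this, ← smul_add, add_sub_cancel]
      obtain ⟨u, hu, hgood, -, hW⟩ := exists_good M e (fun i ↦ hM _) (Function.update (fun _ ↦ (1 : R)) a (d : R))
        (fun i ↦ by
          by_cases h : i = a
          · rw [h, Function.update_self]; exact d.2
          · rw [Function.update_of_ne h]; exact Ideal.IsPrime.one_notMem inferInstance)
        (fun i ↦ i) (fun _ ↦ le_rfl) (fun i r hr ↦ smul_mem_of_mem e i r hr)
        (fun i ↦ if i = a then {(d : R) • z} else ∅) (fun i w hw ↦ by
          by_cases h : i = a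
          · rw [if_pos h, Finset.mem_singleton] at hw
            subst hw h
            rw [← IsScalarTower.algebraMap_smul (Localization.AtPrime P) (d : R)]
            exact Submodule.smul_mem _ _ h2
          · rw [if_neg h] at hw; exact absurd hw (Finset.notMem_empty w))
      set σ : Fin l → R := fun j ↦ u j * Function.update (fun _ ↦ (1 : R)) a (d : R) j with hσ
      let τ : Fin l → R := Function.update σ a (u a * p)
      have hτa : τ a = u a * p := Function.update_self _ _ _
      have hτ : ∀ j, j ≠ a → τ j = σ j := fun j h ↦ Function.update_of_ne h _ _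
      have hσa : σ a = u a * (d : R) := by simp [hσ]
      have hw : u a • (d : R) • z ∈ spanBefore R V (fun j ↦ σ j • e.1 j) a :=
        hW a _ (by simp)
      have hxa : σ a • e.1 a = τ a • e'.1 a + u a • (d : R) • z := by
        rw [hσa, hτa, mul_smul, hdz, smul_add, mul_smul]
      have hne : ∀ j, j ≠ a → σ j • e.1 j = τ j • e'.1 j := fun j h ↦ by rw [hτ j h, h1 j h]
      have hspR : ∀ i, spanBefore R V (fun j ↦ σ j • e.1 j) i = spanBefore R V (fun j ↦ τ j • e'.1 j) i := by
        intro i
        have ha : spanBefore R V (fun j ↦ σ j • e.1 j) (a : ℕ) = spanBefore R V (fun j ↦ τ j • e'.1 j) (a : ℕ) :=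
          spanBefore_congr fun j hj ↦ hne j fun h ↦ by subst h; exact lt_irrefl _ hj
        by_cases hi : (a : ℕ) < i
        · apply le_antisymm <;> rw [spanBefore, Submodule.span_le] <;> rintro _ ⟨j, hj, rfl⟩
          · by_cases hja : j = a
            · subst hja
              show σ j • e.1 j ∈ _
              rw [hxa]
              exact add_mem (mem_spanBefore (R := R) (fun j ↦ τ j • e'.1 j) hi) (spanBefore_mono _ hi.le (ha ▸ hw))
            · show σ j • e.1 j ∈ _
              rw [hne j hja]; exact mem_spanBefore (R := R) (fun j ↦ τ j • e'.1 j) hj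
          · by_cases hja : j = a
            · subst hja
              show τ j • e'.1 j ∈ _
              rw [← add_sub_cancel_right (τ j • e'.1 j) (u j • (d : R) • z), ← hxa]
              exact sub_mem (mem_spanBefore (R := R) (fun j ↦ σ j • e.1 j) hi) (spanBefore_mono _ hi.le hw)
            · show τ j • e'.1 j ∈ _
              rw [← hne j hja]; exact mem_spanBefore (R := R) (fun j ↦ σ j • e.1 j) hj
        · exact spanBefore_congr fun j hj ↦ hne j fun h ↦ hi (h ▸ hj)
      have hτgood : Good (P := P) M e'.1 τ := by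
        refine ⟨fun j ↦ ?_, fun j ↦ ?_, fun j r hr ↦ ?_⟩
        · by_cases h : j = a
          · rw [h, hτa]; exact fun h' ↦ (Ideal.IsPrime.mem_or_mem inferInstance h').elim (hu a) hp
          · rw [hτ j h]; exact hgood.1 j
        · by_cases h : j = a
          · subst h
            rw [← add_sub_cancel_right (τ j • e'.1 j) (u j • (d : R) • z), ← hxa]
            refine sub_mem (hgood.2.1 j) ?_
            have : spanBefore R V (fun j ↦ σ j • e.1 j) (j : ℕ) ≤ M := by
              rw [spanBefore, Submodule.span_le]; rintro _ ⟨i, -, rfl⟩; exact hgood.2.1 i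
            exact this hw
          · rw [← hne j h]; exact hgood.2.1 j
        · rw [← hspR j]
          by_cases h : j = a
          · subst h
            rw [← add_sub_cancel_right (τ j • e'.1 j) (u j • (d : R) • z), ← hxa, smul_sub]
            exact sub_mem (hgood.2.2 j r hr) (Submodule.smul_mem _ r hw)
          · rw [← hne j h]; exact hgood.2.2 j r hr
      have hIH := IH hetop σ hgood
      rw [index_congr hP M hMfg e' (hle e' he's) (fun i ↦ hM _) he's s τ hs hτgood]
      rw [hg.scale e e' a c h1 h2, smul_eq_mul, LatticeLib24.ordFrac_mul _ _ (residue_ne_zero c) (hgne e' he's)] at hIH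
      have hres : residue (Localization.AtPrime P) (c : Localization.AtPrime P) * algebraMap R P.ResidueField d =
          algebraMap R P.ResidueField p := by
        rw [← residue_algebraMap, ← residue_algebraMap, ← map_mul, ← hpd, IsLocalization.mk'_spec]
      have hord : CycAlg.ordFrac (R ⧸ P) P.ResidueField (algebraMap R P.ResidueField p) =
          CycAlg.ordFrac (R ⧸ P) P.ResidueField (residue (Localization.AtPrime P) (c : Localization.AtPrime P)) +
            CycAlg.ordFrac (R ⧸ P) P.ResidueField (algebraMap R P.ResidueField d) := by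
        rw [← LatticeLib24.ordFrac_mul _ _ (residue_ne_zero c) (algebraMap_residue_ne_zero d.2), hres]
      have hσsum : ∑ i, CycAlg.ordFrac (R ⧸ P) P.ResidueField (algebraMap R P.ResidueField (τ i)) =
          ∑ i, CycAlg.ordFrac (R ⧸ P) P.ResidueField (algebraMap R P.ResidueField (σ i)) +
            CycAlg.ordFrac (R ⧸ P) P.ResidueField (residue (Localization.AtPrime P) (c : Localization.AtPrime P)) := by
        rw [← Finset.add_sum_erase _ _ (Finset.mem_univ a), ← Finset.add_sum_erase _ _ (Finset.mem_univ a),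
          Finset.sum_congr rfl (fun j hj ↦ by rw [hτ j (Finset.ne_of_mem_erase hj)]), hτa, hσa, map_mul, map_mul,
          LatticeLib24.ordFrac_mul _ _ (algebraMap_residue_ne_zero (hu a)) (algebraMap_residue_ne_zero hp),
          LatticeLib24.ordFrac_mul _ _ (algebraMap_residue_ne_zero (hu a)) (algebraMap_residue_ne_zero d.2), hord]
        ring
      have hidx : index (P := P) M e'.1 τ = index (P := P) M e.1 σ -
          CycAlg.ordFrac (R ⧸ P) P.ResidueField (residue (Localization.AtPrime P) (c : Localization.AtPrime P)) := by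
        simp only [index]
        rw [hspR l, hσsum]
        ring
      rw [hidx]
      linarith
    · intro e e' a b hab hm heq IH htop' s hs
      have he'top : Submodule.span (Localization.AtPrime P) (Set.range e'.1) = ⊤ := by
        rw [heq, EquivLike.range_comp, htop']
      have hes := strict_of_span_eq_top hl e htop'
      have he's := strict_of_span_eq_top hl e' he'top
      obtain ⟨u, hu, hgood, hkey, -⟩ := exists_good M e (fun i ↦ hM _) (fun _ ↦ 1) (fun _ ↦ Ideal.IsPrime.one_notMem inferInstance)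
        (fun i ↦ if i = a then (b : ℕ) else i) (fun i ↦ by split_ifs with h <;> [(subst h; omega); exact le_rfl])
        (fun i r hr ↦ by
          split_ifs with h
          · subst h
            rw [← IsScalarTower.algebraMap_smul (Localization.AtPrime P) r]
            exact hm _ ((IsLocalization.AtPrime.to_map_mem_maximal_iff _ P r).mpr hr)
          · exact smul_mem_of_mem e i r hr)
        (fun _ ↦ ∅) (by simp)
      set σ : Fin l → R := fun j ↦ u j * 1 with hσ
      let τ : Fin l → R := σ ∘ Equiv.swap a b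
      have hτe : (fun j ↦ τ j • e'.1 j) = (fun j ↦ σ j • e.1 j) ∘ Equiv.swap a b := by funext j; rw [heq]; rfl
      have hτgood : Good (P := P) M e'.1 τ := by
        refine ⟨fun j ↦ hgood.1 _, fun j ↦ by rw [heq]; exact hgood.2.1 _, fun j r hr ↦ ?_⟩
        rw [hτe, show τ j • e'.1 j = σ (Equiv.swap a b j) • e.1 (Equiv.swap a b j) by rw [heq]; rfl]
        have hlt : ∀ i : ℕ, i ≤ (b : ℕ) → spanBefore R V ((fun j ↦ σ j • e.1 j) ∘ Equiv.swap a b) i =
            spanBefore R V (fun j ↦ σ j • e.1 j) i := fun i hi ↦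
          spanBefore_congr fun k hk ↦ congrArg (fun j ↦ σ j • e.1 j) (Equiv.swap_apply_of_ne_of_ne
            (fun h ↦ by rw [h] at hk; omega) (fun h ↦ by rw [h] at hk; omega))
        rcases lt_trichotomy (j : ℕ) (b : ℕ) with hjb | hjb | hjb
        · rw [hlt j hjb.le, Equiv.swap_apply_of_ne_of_ne (fun h ↦ by rw [h] at hjb; omega)
            (fun h ↦ by rw [h] at hjb; omega)]
          exact hgood.2.2 j r hr
        · rw [hlt j hjb.le, show j = b from Fin.ext hjb, Equiv.swap_apply_right]
          have := hkey a r hr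
          rwa [if_pos rfl] at this
        · by_cases hja : j = a
          · rw [hja, Equiv.swap_apply_left]
            refine spanBefore_mono (i := (b : ℕ)) _ (by omega) ?_
            rw [hlt b le_rfl]
            exact hgood.2.2 b r hr
          · have hja' : (a : ℕ) < j := by
              have : (j : ℕ) ≠ a := fun h ↦ hja (Fin.ext h)
              omega
            rw [Equiv.swap_apply_of_ne_of_ne hja (fun h ↦ by rw [h] at hja'; omega)]
            have : spanBefore R V ((fun j ↦ σ j • e.1 j) ∘ Equiv.swap a b) j =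
                spanBefore R V (fun j ↦ σ j • e.1 j) j := by
              refine congrArg (Submodule.span R) ?_
              rw [Set.image_comp]
              congr 1
              ext k
              constructor
              · rintro ⟨k', hk', rfl⟩
                show ((Equiv.swap a b) k' : ℕ) < j
                rw [Equiv.swap_apply_def]
                split_ifs <;> first | omega | exact hk'
              · intro hk'
                refine ⟨Equiv.swap a b k, ?_, Equiv.swap_apply_self a b k⟩
                show ((Equiv.swap a b) k : ℕ) < j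
                rw [Equiv.swap_apply_def]
                split_ifs <;> first | omega | exact hk'
            rw [this]
            exact hgood.2.2 j r hr
      have hidx : index (P := P) M e'.1 τ = index (P := P) M e.1 σ := by
        simp only [index]
        rw [hτe, spanBefore_top, spanBefore_top, EquivLike.range_comp]
        congr 1
        exact Equiv.sum_comp (Equiv.swap a b)
          (fun i ↦ CycAlg.ordFrac (R ⧸ P) P.ResidueField (algebraMap R P.ResidueField (σ i)))
      have h := IH he'top τ hτgood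
      have hge : g e = -g e' := eq_neg_of_add_eq_zero_left (hg.swap e e' a b hab hm heq)
      rw [index_congr hP M hMfg e (hle e hes) (fun i ↦ hM _) hes s σ hs hgood, ← hidx, hge, ordFrac_neg hP (hgne e' he's)]
      exact h
  have hge : g e = r * g f := by
    have h := congrArg hg.lift hr
    rwa [map_smul, IsDet.lift_mk, IsDet.lift_mk, smul_eq_mul] at h
  have hr0 : r ≠ 0 := fun h0 ↦ hgne e he (by rw [hge, h0, zero_mul])
  refine ⟨hr0, ?_⟩
  have h := hmain s hs
  rw [hge, LatticeLib24.ordFrac_mul _ _ hr0 hgf] at h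
  linarith

end Lattice

end Groth.Agent.CycDetLib
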