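import Mathlib
import Groth.Agent.CycDetLib.Lattice
import Groth.Agent.CycAlgLib.Herbrand

/-!
# The Herbrand quotient of a periodic complex as the order of a ratio of symbols
-/

set_option autoImplicit false

universe u

namespace Groth.Agent.CycDetLib

open CycDet IsLocalRing Groth.Agent.CycAlgLib

section Restrict

variable {A : Type u} [CommRing A] {V : Type u} [AddCommGroup V] [Module A V] {l m : ℕ}

theorem spanBefore_castLE (h : m ≤ l) (e : Fin l → V) {i : ℕ} (hi : i ≤ m) :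
    spanBefore A V (fun j : Fin m ↦ e (Fin.castLE h j)) i = spanBefore A V e i := by
  refine le_antisymm ?_ ?_ <;> rw [spanBefore, Submodule.span_le]
  · rintro _ ⟨j, hj, rfl⟩
    exact Submodule.subset_span ⟨Fin.castLE h j, hj, rfl⟩
  · rintro _ ⟨j, hj, rfl⟩
    exact Submodule.subset_span ⟨⟨j, lt_of_lt_of_le hj hi⟩, hj, rfl⟩

end Restrict

section Head

variable {A : Type u} [CommRing A] [IsLocalRing A] {V : Type u} [AddCommGroup V] [Module A V] {l m : ℕ}

theorem isAdmissible_head (h : m ≤ l) (e : Adm A V l) :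
    IsAdmissible A V (fun j : Fin m ↦ e.1 (Fin.castLE h j)) := by
  intro j r hr
  have h1 := spanBefore_castLE (A := A) h e.1 (i := (j : ℕ)) j.isLt.le
  have h2 := e.2 (Fin.castLE h j) r hr
  rw [h1]
  exact h2

/-- the first entries of an admissible tuple -/
def head (h : m ≤ l) (e : Adm A V l) : Adm A V m :=
  ⟨fun j ↦ e.1 (Fin.castLE h j), isAdmissible_head h e⟩

theorem strict_head (h : m ≤ l) (e : Adm A V l) (he : Strict (R := A) e.1) : Strict (R := A) (head h e).1 := by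
  intro j hj
  have h1 := spanBefore_castLE (A := A) h e.1 (i := (j : ℕ)) j.isLt.le
  have h2 : e.1 (Fin.castLE h j) ∈ spanBefore A V (fun j : Fin m ↦ e.1 (Fin.castLE h j)) (j : ℕ) := hj
  rw [h1] at h2
  exact he (Fin.castLE h j) h2

theorem ker_mem_spanBefore (φ : V →ₗ[A] V) {na nb : ℕ} (hl : na + nb = l) (e : Adm A V l) (b : Adm A V nb)
    (hb : Strict (R := A) b.1) (hker : ∀ i : Fin l, (i : ℕ) < na → φ (e.1 i) = 0)
    (hφ : ∀ j : Fin nb, φ (e.1 ⟨na + j, by omega⟩) = b.1 j) :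
    ∀ j : ℕ, j ≤ nb → ∀ z ∈ spanBefore A V e.1 (na + j), φ z = 0 → z ∈ spanBefore A V e.1 na := by
  intro j
  induction j with
  | zero => intro _ z hz _; simpa using hz
  | succ j IH =>
    intro hj z hz hz0
    rw [show na + (j + 1) = ((⟨na + j, by omega⟩ : Fin l) : ℕ) + 1 by simp; omega, spanBefore_succ,
      Submodule.mem_sup] at hz
    obtain ⟨y, hy, w, hw, rfl⟩ := hz
    obtain ⟨c, rfl⟩ := Submodule.mem_span_singleton.mp hw
    have hy' : φ y ∈ spanBefore A V b.1 j := by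
      have : (spanBefore A V e.1 (na + j)).map φ ≤ spanBefore A V b.1 j := by
        rw [spanBefore, Submodule.map_span, Submodule.span_le]
        rintro _ ⟨_, ⟨k, hk, rfl⟩, rfl⟩
        by_cases hka : (k : ℕ) < na
        · rw [hker k hka]; exact zero_mem _
        · have hk' : (k : ℕ) < na + j := hk
          have hkb : (k : ℕ) - na < nb := by omega
          rw [show k = (⟨na + (⟨(k : ℕ) - na, hkb⟩ : Fin nb), by simp; omega⟩ : Fin l) from Fin.ext (by simp; omega), hφ]
          exact mem_spanBefore b.1 (show (k : ℕ) - na < j by omega)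
      exact this ⟨y, hy, rfl⟩
    refine IH (by omega) _ (add_mem hy ?_) hz0
    have hc : c ∈ maximalIdeal A := by
      by_contra hc
      have hcu : IsUnit c := not_not.mp fun h ↦ hc ((mem_maximalIdeal c).mpr h)
      refine hb ⟨j, by omega⟩ ((Submodule.smul_mem_iff_of_isUnit _ hcu).mp ?_)
      have h1 : c • b.1 ⟨j, by omega⟩ = -φ y := by
        rw [map_add, map_smul] at hz0
        rw [← hφ ⟨j, by omega⟩]
        exact eq_neg_of_add_eq_zero_right hz0
      rw [h1]
      exact neg_mem hy'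
    exact e.2 ⟨na + j, by omega⟩ c hc

end Head

section Periodic

variable {R : Type u} [CommRing R] [IsNoetherianRing R] [IsLocalRing R] {P : Ideal R} [P.IsPrime]
  {V : Type u} [AddCommGroup V] [Module R V] [Module (Localization.AtPrime P) V]
  [IsScalarTower R (Localization.AtPrime P) V] {l : ℕ}

theorem index_split (hP : ringKrullDim (R ⧸ P) = 1) (M : Submodule R V) (hMfg : M.FG)
    (φ : V →ₗ[Localization.AtPrime P] V) {na nb : ℕ} (hl : na + nb = l) (e : Adm (Localization.AtPrime P) V l)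
    (htop : M ≤ (Submodule.span (Localization.AtPrime P) (Set.range e.1)).restrictScalars R)
    (b : Adm (Localization.AtPrime P) V nb) (hb : Strict (R := Localization.AtPrime P) b.1)
    (hker : ∀ i : Fin l, (i : ℕ) < na → φ (e.1 i) = 0)
    (hφ : ∀ j : Fin nb, φ (e.1 ⟨na + j, by omega⟩) = b.1 j) (s : Fin l → R) (hs : Good (P := P) M e.1 s) :
    Good (P := P) (M.map (φ.restrictScalars R)) b.1 (fun j ↦ s ⟨na + j, by omega⟩) ∧
    Good (P := P) (M ⊓ LinearMap.ker (φ.restrictScalars R)) (head (show na ≤ l by omega) e).1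
      (fun i ↦ s (Fin.castLE (show na ≤ l by omega) i)) ∧
    M ⊓ LinearMap.ker (φ.restrictScalars R) ≤
      (Submodule.span (Localization.AtPrime P) (Set.range (head (show na ≤ l by omega) e).1)).restrictScalars R ∧
    M.map (φ.restrictScalars R) ≤ (Submodule.span (Localization.AtPrime P) (Set.range b.1)).restrictScalars R ∧
    index (P := P) M e.1 s =
      index (P := P) (M.map (φ.restrictScalars R)) b.1 (fun j ↦ s ⟨na + j, by omega⟩) +
        index (P := P) (M ⊓ LinearMap.ker (φ.restrictScalars R)) (head (show na ≤ l by omega) e).1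
          (fun i ↦ s (Fin.castLE (show na ≤ l by omega) i)) := by
  classical
  set φR := φ.restrictScalars R
  set sb : Fin nb → R := fun j ↦ s ⟨na + j, by omega⟩
  set x : Fin l → V := fun j ↦ s j • e.1 j
  have hxker : ∀ i : Fin l, (i : ℕ) < na → φR (x i) = 0 := fun i hi ↦ by
    change φR (s i • e.1 i) = 0
    rw [map_smul, show φR (e.1 i) = 0 from hker i hi, smul_zero]
  have hxφ : ∀ j : Fin nb, φR (x ⟨na + j, by omega⟩) = sb j • b.1 j := fun j ↦ by
    change φR (s _ • e.1 _) = _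
    rw [map_smul, show φR (e.1 ⟨na + j, _⟩) = b.1 j from hφ j]
  have hmap : ∀ j ≤ nb, (spanBefore R V x (na + j)).map φR = spanBefore R V (fun j ↦ sb j • b.1 j) j := by
    intro j hj
    refine le_antisymm ?_ ?_
    · rw [spanBefore, Submodule.map_span, Submodule.span_le]
      rintro _ ⟨_, ⟨k, hk, rfl⟩, rfl⟩
      by_cases hka : (k : ℕ) < na
      · rw [hxker k hka]; exact zero_mem _
      · have hk' : (k : ℕ) < na + j := hk
        have hkb : (k : ℕ) - na < nb := by omega
        rw [show k = (⟨na + (⟨(k : ℕ) - na, hkb⟩ : Fin nb), by simp; omega⟩ : Fin l) from Fin.ext (by simp; omega), hxφ]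
        exact mem_spanBefore (R := R) (fun j ↦ sb j • b.1 j) (show (k : ℕ) - na < j by omega)
    · rw [spanBefore, Submodule.span_le]
      rintro _ ⟨k, hk, rfl⟩
      exact ⟨x ⟨na + k, by omega⟩, mem_spanBefore x (show na + (k : ℕ) < na + j by
        have : (k : ℕ) < j := hk
        omega), hxφ k⟩
  have hgb : Good (P := P) (M.map φR) b.1 sb := by
    refine ⟨fun j ↦ hs.1 _, fun j ↦ ?_, fun j r hr ↦ ?_⟩
    · rw [← hxφ j]; exact ⟨_, hs.2.1 _, rfl⟩
    · rw [← hmap j j.2.le, ← hxφ j, ← map_smul]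
      exact ⟨_, hs.2.2 ⟨na + j, by omega⟩ r hr, rfl⟩
  have hga : Good (P := P) (M ⊓ LinearMap.ker φR) (head (show na ≤ l by omega) e).1
      (fun i ↦ s (Fin.castLE (show na ≤ l by omega) i)) := by
    have hnal : na ≤ l := by omega
    refine ⟨fun i ↦ hs.1 (Fin.castLE hnal i), fun i ↦ ⟨hs.2.1 (Fin.castLE hnal i), hxker (Fin.castLE hnal i) i.isLt⟩,
      fun i r hr ↦ ?_⟩
    have h1 := spanBefore_castLE (A := R) hnal x (i := (i : ℕ)) i.isLt.le
    have h2 : r • x (Fin.castLE hnal i) ∈ spanBefore R V x (i : ℕ) := hs.2.2 (Fin.castLE hnal i) r hr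
    rw [← h1] at h2
    exact h2
  have hka : M ⊓ LinearMap.ker φR ≤
      (Submodule.span (Localization.AtPrime P) (Set.range (head (show na ≤ l by omega) e).1)).restrictScalars R := by
    rintro z ⟨hzM, hz⟩
    rw [Submodule.restrictScalars_mem, ← spanBefore_top]
    change z ∈ spanBefore (Localization.AtPrime P) V (fun j : Fin na ↦ e.1 (Fin.castLE (show na ≤ l by omega) j)) na
    rw [spanBefore_castLE _ e.1 le_rfl]
    refine ker_mem_spanBefore φ hl e b hb hker hφ nb le_rfl z ?_ hz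
    rw [hl, spanBefore_top]
    exact htop hzM
  have hkb : M.map φR ≤ (Submodule.span (Localization.AtPrime P) (Set.range b.1)).restrictScalars R := by
    rintro _ ⟨z, hz, rfl⟩
    rw [Submodule.restrictScalars_mem]
    have h1 : φ z ∈ (Submodule.span (Localization.AtPrime P) (Set.range e.1)).map φ := ⟨z, htop hz, rfl⟩
    rw [Submodule.map_span] at h1
    refine (Submodule.span_le.mpr ?_) h1
    rintro _ ⟨_, ⟨k, rfl⟩, rfl⟩
    by_cases hk : (k : ℕ) < na
    · rw [hker k hk]; exact zero_mem _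
    · have hkb : (k : ℕ) - na < nb := by omega
      rw [show k = (⟨na + (⟨(k : ℕ) - na, hkb⟩ : Fin nb), by simp; omega⟩ : Fin l) from Fin.ext (by simp; omega), hφ]
      exact Submodule.subset_span ⟨_, rfl⟩
  refine ⟨hgb, hga, hka, hkb, ?_⟩
  -- the span meets the kernel in the span of the head
  have hBker : ∀ j : ℕ, j ≤ nb → ∀ z ∈ spanBefore R V x (na + j), φR z = 0 → z ∈ spanBefore R V x na := by
    intro j
    induction j with
    | zero => intro _ z hz _; simpa using hz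
    | succ j IH =>
      intro hj z hz hz0
      let J : Fin nb := ⟨j, by omega⟩
      rw [show na + (j + 1) = ((⟨na + j, by omega⟩ : Fin l) : ℕ) + 1 by simp; omega, spanBefore_succ,
        Submodule.mem_sup] at hz
      obtain ⟨y, hy, w, hw, rfl⟩ := hz
      obtain ⟨r, rfl⟩ := Submodule.mem_span_singleton.mp hw
      refine IH (by omega) _ (add_mem hy ?_) hz0
      refine hs.2.2 ⟨na + j, by omega⟩ r (mem_of_smul_mem_span b.1 hb sb hgb.1 J r ?_)
      rw [← hxφ J, ← map_smul, ← hmap j (by omega)]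
      refine ⟨-y, neg_mem hy, ?_⟩
      rw [map_neg, neg_eq_iff_add_eq_zero, ← map_add]
      exact hz0
  have hBM : spanBefore R V x l ≤ M := by
    rw [spanBefore_top, Submodule.span_le]; rintro _ ⟨j, rfl⟩; exact hs.2.1 j
  have hfin := (rlen_top_span hP M hMfg e htop s hs).2
  have hrl : rlen M (spanBefore R V x l) = rlen (M.map φR) (spanBefore R V (fun j ↦ sb j • b.1 j) nb) +
      rlen (M ⊓ LinearMap.ker φR) (spanBefore R V
        (fun j ↦ s (Fin.castLE (show na ≤ l by omega) j) • (head (show na ≤ l by omega) e).1 j) na) := by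
    rw [rlen_split φR hBM]
    congr 1
    · rw [← hmap nb le_rfl, hl]
    · rw [show spanBefore R V (fun j ↦ s (Fin.castLE (show na ≤ l by omega) j) • (head (show na ≤ l by omega) e).1 j) na =
        spanBefore R V x na from spanBefore_castLE (show na ≤ l by omega) x le_rfl, ← rlen_inf]
      congr 1
      refine le_antisymm (fun z hz ↦ hBker nb le_rfl z (by rw [hl]; exact hz.2) hz.1.2) (le_inf (le_inf ?_ ?_) ?_)
      · exact (spanBefore_mono x (show na ≤ l by omega)).trans hBM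
      · rw [spanBefore, Submodule.span_le]; rintro _ ⟨k, hk, rfl⟩; exact hxker k hk
      · exact spanBefore_mono x (show na ≤ l by omega)
  simp only [index]
  rw [hrl] at hfin ⊢
  obtain ⟨h1, h2⟩ := WithTop.add_ne_top.mp hfin.ne
  rw [ENat.toNat_add h1 h2, Nat.cast_add]
  subst hl
  rw [Fin.sum_univ_add]
  simp only [sb]
  have e1 : ∀ i : Fin nb, s ⟨na + (i : ℕ), by omega⟩ = s (Fin.natAdd na i) := fun i ↦ rfl
  have e2 : ∀ i : Fin na, s (Fin.castLE (by omega) i) = s (Fin.castAdd nb i) := fun i ↦ rfl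
  simp only [e1, e2]
  ring

theorem index_of_le (hP : ringKrullDim (R ⧸ P) = 1) {N N' : Submodule R V} (hle : N' ≤ N) (hfg : N.FG) {m : ℕ}
    (a : Adm (Localization.AtPrime P) V m)
    (htop : N ≤ (Submodule.span (Localization.AtPrime P) (Set.range a.1)).restrictScalars R)
    (ha : Strict (R := Localization.AtPrime P) a.1) (hN' : ∀ i, ∃ u ∉ P, u • a.1 i ∈ N')
    (s : Fin m → R) (hs : Good (P := P) N a.1 s) :
    rlen N N' < ⊤ ∧ ∀ t, Good (P := P) N' a.1 t →
      index (P := P) N a.1 s = ((rlen N N').toNat : ℤ) + index (P := P) N' a.1 t := by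
  obtain ⟨u, hu, hg, -, -⟩ := exists_good N' a hN' (fun _ ↦ 1) (fun _ ↦ Ideal.IsPrime.one_notMem inferInstance)
    (fun i ↦ i) (fun _ ↦ le_rfl) (fun i r hr ↦ smul_mem_of_mem a i r hr) (fun _ ↦ ∅) (by simp)
  have hfin : rlen N N' < ⊤ := by
    have hg' : Good (P := P) N a.1 (fun j ↦ u j * 1) := ⟨hg.1, fun i ↦ hle (hg.2.1 i), hg.2.2⟩
    have h := (rlen_top_span hP N hfg a htop _ hg').2
    rw [rlen_trans (C := N') ?_ hle] at h
    · exact lt_top_of_add_left h
    · rw [spanBefore_top, Submodule.span_le]; rintro _ ⟨i, rfl⟩; exact hg.2.1 i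
  refine ⟨hfin, fun t ht ↦ ?_⟩
  have ht' : Good (P := P) N a.1 t := ⟨ht.1, fun i ↦ hle (ht.2.1 i), ht.2.2⟩
  rw [index_congr hP N hfg a htop (fun i ↦ ⟨t i, ht.1 i, ht'.2.1 i⟩) ha s t hs ht']
  have hsp : spanBefore R V (fun j ↦ t j • a.1 j) m ≤ N' := by
    rw [spanBefore_top, Submodule.span_le]; rintro _ ⟨i, rfl⟩; exact ht.2.1 i
  have h := (rlen_top_span hP N hfg a htop t ht').2
  rw [rlen_trans hsp hle] at h
  obtain ⟨h1, h2⟩ := WithTop.add_ne_top.mp h.ne
  simp only [index]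
  rw [rlen_trans hsp hle, ENat.toNat_add h1 h2, Nat.cast_add]
  ring

/-- Data exhibiting `r` as the ratio of the two symbols of an exact periodic complex. -/
def IsPeriodicRatio {A : Type u} [CommRing A] [IsLocalRing A] {W : Type u} [AddCommGroup W] [Module A W]
    (φ ψ : W →ₗ[A] W) (r : ResidueField A) : Prop :=
  ∃ (l na nb : ℕ) (hl : na + nb = l) (e f : Adm A W l), Module.length A W = l ∧
    Strict (R := A) e.1 ∧ Strict (R := A) f.1 ∧
    (∀ i : Fin l, (i : ℕ) < na → φ (e.1 i) = 0) ∧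
    (∀ j : Fin nb, φ (e.1 ⟨na + j, by omega⟩) = f.1 ⟨j, by omega⟩) ∧
    (∀ i : Fin l, (i : ℕ) < nb → ψ (f.1 i) = 0) ∧
    (∀ i : Fin na, ψ (f.1 ⟨nb + i, by omega⟩) = e.1 ⟨i, by omega⟩) ∧
    (Submodule.Quotient.mk (sym A W e) : DetOfLen A W l) = r • Submodule.Quotient.mk (sym A W f)

theorem herbrand_eq_ord (hP : ringKrullDim (R ⧸ P) = 1) (M : Submodule R V) (hMfg : M.FG)
    (hM : ∀ v : V, ∃ u ∉ P, u • v ∈ M) (φ ψ : V →ₗ[Localization.AtPrime P] V) (hφψ : φ ∘ₗ ψ = 0) (hψφ : ψ ∘ₗ φ = 0)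
    (hφM : ∀ v ∈ M, φ.restrictScalars R v ∈ M) (hψM : ∀ v ∈ M, ψ.restrictScalars R v ∈ M)
    (r : P.ResidueField) (hr : IsPeriodicRatio φ ψ r) :
    r ≠ 0 ∧ CycAlg.FinCoh R ((φ.restrictScalars R).restrict hφM) ((ψ.restrictScalars R).restrict hψM) ∧
      CycAlg.herbrand R ((φ.restrictScalars R).restrict hφM) ((ψ.restrictScalars R).restrict hψM) =
        CycAlg.ordFrac (R ⧸ P) P.ResidueField r := by
  obtain ⟨l, na, nb, hl, e, f, hlen, he, hf, he0, he1, hf0, hf1, hr⟩ := hr
  set φR := φ.restrictScalars R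
  set ψR := ψ.restrictScalars R
  have hl' : nb + na = l := by omega
  have hgood : ∀ e : Adm (Localization.AtPrime P) V l, ∃ s, Good (P := P) M e.1 s := fun e ↦ by
    obtain ⟨u, hu, hg, -, -⟩ := exists_good M e (fun i ↦ hM _) (fun _ ↦ 1) (fun _ ↦ Ideal.IsPrime.one_notMem inferInstance)
      (fun i ↦ i) (fun _ ↦ le_rfl) (fun i r hr ↦ smul_mem_of_mem e i r hr) (fun _ ↦ ∅) (by simp)
    exact ⟨_, hg⟩
  obtain ⟨s, hs⟩ := hgood e
  obtain ⟨t, ht⟩ := hgood f
  obtain ⟨hr0, hidx⟩ := index_symbol hP M hMfg hM hlen e f he hf r hr s t hs ht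
  have htop : ∀ e : Adm (Localization.AtPrime P) V l, Strict (R := Localization.AtPrime P) e.1 →
      M ≤ (Submodule.span (Localization.AtPrime P) (Set.range e.1)).restrictScalars R := fun e he ↦ by
    rw [span_eq_top_of_strict hlen e he]; exact fun _ _ ↦ Submodule.mem_top
  have hbs := strict_head (show nb ≤ l by omega) f hf
  have has := strict_head (show na ≤ l by omega) e he
  obtain ⟨hge_b, hge_a, hMφ, hφMtop, hsplite⟩ := index_split hP M hMfg φ hl e (htop e he) (head (show nb ≤ l by omega) f)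
    hbs he0 he1 s hs
  obtain ⟨hgf_a, hgf_b, hMψ, hψMtop, hsplitf⟩ := index_split hP M hMfg ψ hl' f (htop f hf) (head (show na ≤ l by omega) e)
    has hf0 hf1 t ht
  haveI : Module.Finite R M := Module.Finite.iff_fg.mpr hMfg
  have hleφ : M.map ψR ≤ M ⊓ LinearMap.ker φR := by
    rintro _ ⟨v, hv, rfl⟩
    exact ⟨hψM v hv, LinearMap.congr_fun hφψ v⟩
  have hleψ : M.map φR ≤ M ⊓ LinearMap.ker ψR := by
    rintro _ ⟨v, hv, rfl⟩
    exact ⟨hφM v hv, LinearMap.congr_fun hψφ v⟩
  have hfg : ∀ N : Submodule R V, N ≤ M → N.FG := fun N hN ↦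
    Submodule.FG.of_le hMfg hN
  obtain ⟨hfin0, h0⟩ := index_of_le hP hleφ (hfg _ inf_le_left) _ hMφ has
    (fun i ↦ ⟨_, hgf_a.1 i, hgf_a.2.1 i⟩) _ hge_a
  obtain ⟨hfin1, h1⟩ := index_of_le hP hleψ (hfg _ inf_le_left) _ hMψ hbs
    (fun i ↦ ⟨_, hge_b.1 i, hge_b.2.1 i⟩) _ hgf_b
  have hperH : ∀ (α β : V →ₗ[Localization.AtPrime P] V) (hα : ∀ v ∈ M, α.restrictScalars R v ∈ M)
      (hβ : ∀ v ∈ M, β.restrictScalars R v ∈ M),
      Module.length R (CycAlg.perH ((α.restrictScalars R).restrict hα) ((β.restrictScalars R).restrict hβ)) =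
        rlen (M ⊓ LinearMap.ker (α.restrictScalars R)) (M.map (β.restrictScalars R)) := by
    intro α β hα hβ
    rw [length_perH, ← rlen_bot_map (Submodule.injective_subtype M)]
    congr 1
    · refine le_antisymm ?_ ?_
      · rintro _ ⟨v, hv, rfl⟩
        exact ⟨v.2, congrArg Subtype.val (LinearMap.mem_ker.mp hv)⟩
      · rintro v ⟨hv, hv0⟩
        exact ⟨⟨v, hv⟩, LinearMap.mem_ker.mpr (Subtype.ext hv0), rfl⟩
    · refine le_antisymm ?_ ?_
      · rintro _ ⟨_, ⟨v, rfl⟩, rfl⟩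
        exact ⟨v.1, v.2, rfl⟩
      · rintro _ ⟨v, hv, rfl⟩
        exact ⟨_, ⟨⟨v, hv⟩, rfl⟩, rfl⟩
  refine ⟨hr0, ⟨by rw [hperH φ ψ hφM hψM]; exact hfin0, by rw [hperH ψ φ hψM hφM]; exact hfin1⟩, ?_⟩
  rw [CycAlg.herbrand, hperH φ ψ hφM hψM, hperH ψ φ hψM hφM, ← hidx, hsplite, hsplitf, h0 _ hgf_a, h1 _ hge_b]
  ring

end Periodic

end Groth.Agent.CycDetLib
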