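import Mathlib
import Groth.Agent.CycDetLib.Exists

/-!
# The determinant is a line; comparison with the exterior power
-/

set_option autoImplicit false

universe u v

namespace Groth.Agent.CycDetLib

open CycDet IsLocalRing

variable {R : Type u} [CommRing R] [IsLocalRing R] {M : Type v} [AddCommGroup M] [Module R M]

theorem length_eq_toNat (hM : IsFiniteLength R M) : Module.length R M = ((Module.length R M).toNat : ℕ∞) :=
  (ENat.coe_toNat (Module.length_ne_top_iff.mpr hM)).symm

theorem det_le_line (hM : IsFiniteLength R M) : ∃ v : Det R M, ∀ w : Det R M, ∃ r : ResidueField R, r • v = w := by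
  classical
  by_cases h : ∃ f : Adm R M (Module.length R M).toNat, Strict (R := R) f.1
  · obtain ⟨f, hf⟩ := h
    refine ⟨symbol R M f, fun w => ?_⟩
    exact Submodule.mem_span_singleton.mp ((span_symbol (length_eq_toNat hM) f hf).symm ▸ Submodule.mem_top)
  · push Not at h
    refine ⟨0, fun w => ⟨0, ?_⟩⟩
    obtain ⟨z, rfl⟩ := Submodule.Quotient.mk_surjective _ w
    rw [zero_smul]
    symm
    induction z using Finsupp.induction_linear with
    | zero => simp
    | add a b ha hb => rw [Submodule.Quotient.mk_add, ha, hb, add_zero]
    | single e r =>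
      rw [show Finsupp.single e r = r • sym R M e by simp [sym], Submodule.Quotient.mk_smul,
        (isDet_mk (R := R) (M := M) _).eq_zero e (h e), smul_zero]

theorem rank_det_le_one (hM : IsFiniteLength R M) : Module.rank (ResidueField R) (Det R M) ≤ 1 :=
  rank_le_one_iff.mpr (det_le_line hM)

theorem symbol_ne_zero (hM : IsFiniteLength R M) (e : Adm R M (Module.length R M).toNat)
    (he : Submodule.span R (Set.range e.1) = ⊤) : symbol R M e ≠ 0 :=
  exists_linearMap_ne_zero (length_eq_toNat hM) e he

section vectorSpace

variable [Module (ResidueField R) M] [IsScalarTower R (ResidueField R) M]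

theorem isDet_ιMulti (l : ℕ) :
    IsDet (fun e : Adm R M l => exteriorPower.ιMulti (ResidueField R) l e.1) := by
  have hzero : ∀ (v : Fin l → M) (a : Fin l), v a ∈ spanBefore R M v a → exteriorPower.ιMulti (ResidueField R) l v = 0 := by
    intro v a ha
    refine AlternatingMap.map_linearDependent _ v fun hli => ?_
    refine linearIndependent_iff_notMem_span.mp hli a ?_
    have h1 : spanBefore R M v a ≤ (Submodule.span (ResidueField R) (v '' (Set.univ \ {a}))).restrictScalars R := by
      rw [spanBefore, Submodule.span_le]
      rintro _ ⟨j, hj, rfl⟩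
      exact Submodule.subset_span ⟨j, ⟨trivial, fun h => by rw [Set.mem_singleton_iff] at h; subst h; exact lt_irrefl _ (show (j : ℕ) < j from hj)⟩, rfl⟩
    exact h1 ha
  refine ⟨fun e a ha => hzero e.1 a ha, fun e e' a c h1 h2 => ?_, fun e e' a b hab _ h3 => ?_⟩
  · have hup : e.1 = Function.update e'.1 a (residue R (c : R) • e'.1 a + (e.1 a - (c : R) • e'.1 a)) := by
      rw [show residue R (c : R) • e'.1 a = (c : R) • e'.1 a from IsScalarTower.algebraMap_smul (ResidueField R) (c : R) (e'.1 a), add_sub_cancel]
      funext j
      by_cases hj : j = a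
      · subst hj; rw [Function.update_self]
      · rw [Function.update_of_ne hj, h1 j hj]
    conv_lhs => rw [hup]
    rw [AlternatingMap.map_update_add, AlternatingMap.map_update_smul, Function.update_eq_self,
      hzero (Function.update e'.1 a _) a ?_, add_zero]
    have hpre : spanBefore R M (Function.update e'.1 a (e.1 a - (c : R) • e'.1 a)) a = spanBefore R M e.1 a :=
      spanBefore_congr fun j (hj : (j : ℕ) < (a : ℕ)) => by
        have hne : j ≠ a := fun h => by rw [h] at hj; exact lt_irrefl _ hj
        rw [Function.update_of_ne hne, h1 j hne]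
    rw [Function.update_self, hpre]
    exact h2
  · show exteriorPower.ιMulti _ l e.1 + exteriorPower.ιMulti _ l e'.1 = 0
    rw [h3, AlternatingMap.map_swap _ _ (fun h => by rw [h] at hab; omega), add_neg_cancel]

theorem length_eq_finrank [Module.Finite (ResidueField R) M] :
    Module.length R M = (Module.finrank (ResidueField R) M : ℕ∞) := by
  rw [Module.length_eq_of_surjective (S := R) (R := ResidueField R) (M := M) residue_surjective, Module.length_eq_finrank]

theorem exists_det_equiv [Module.Finite (ResidueField R) M] :
    ∃ Φ : Det R M ≃ₗ[ResidueField R] (⋀[ResidueField R]^((Module.length R M).toNat) M),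
      ∀ e : Adm R M (Module.length R M).toNat,
        Φ (symbol R M e) = exteriorPower.ιMulti (ResidueField R) ((Module.length R M).toNat) e.1 := by
  have hfl : IsFiniteLength R M := Module.length_ne_top_iff.mp (by rw [length_eq_finrank]; exact ENat.coe_ne_top _)
  set l := (Module.length R M).toNat with hl
  have hld : l = Module.finrank (ResidueField R) M := by rw [hl, length_eq_finrank, ENat.toNat_coe]
  let b := Module.finBasisOfFinrankEq (ResidueField R) M hld.symm
  have hadm : IsAdmissible R M ⇑b := fun i r hr => by
    rw [← IsScalarTower.algebraMap_smul (ResidueField R) r (b i),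
      show algebraMap R (ResidueField R) r = 0 from (residue_eq_zero_iff r).mpr hr, zero_smul]
    exact zero_mem _
  let φ := (isDet_ιMulti (R := R) (M := M) l).lift
  have hdim : Module.finrank (ResidueField R) (⋀[ResidueField R]^l M) = 1 := by
    rw [exteriorPower.finrank_eq, ← hld, Nat.choose_self]
  have hne : φ (symbol R M ⟨⇑b, hadm⟩) ≠ 0 := by
    show φ (Submodule.Quotient.mk (sym R M ⟨⇑b, hadm⟩)) ≠ 0
    rw [IsDet.lift_mk]
    intro h
    have h1 := congrArg (exteriorPower.alternatingMapLinearEquiv b.det) h
    rw [exteriorPower.alternatingMapLinearEquiv_apply_ιMulti, map_zero, Module.Basis.det_self] at h1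
    exact one_ne_zero h1
  obtain ⟨v, hv⟩ := det_le_line hfl
  have hbij : Function.Bijective φ := by
    obtain ⟨r, hr⟩ := hv (symbol R M ⟨⇑b, hadm⟩)
    have hv0 : φ v ≠ 0 := fun h => hne (by rw [← hr, map_smul, h, smul_zero])
    refine ⟨fun x y hxy => ?_, fun z => ?_⟩
    · obtain ⟨r1, rfl⟩ := hv x; obtain ⟨r2, rfl⟩ := hv y
      rw [map_smul, map_smul] at hxy
      rw [smul_left_injective _ hv0 hxy]
    · obtain ⟨c, hc⟩ := exists_smul_eq_of_finrank_eq_one hdim hv0 z
      exact ⟨c • v, by rw [map_smul, hc]⟩
  exact ⟨LinearEquiv.ofBijective φ hbij, fun e => (isDet_ιMulti (R := R) (M := M) l).lift_mk e⟩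

end vectorSpace

end Groth.Agent.CycDetLib
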