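import Mathlib
import Groth.Agent.CycDetLib.Line

/-!
# Existence of admissible generating tuples; the determinant of a short exact sequence
-/

set_option autoImplicit false

universe u v

open scoped TensorProduct

namespace Groth.Agent.CycDetLib

open CycDet IsLocalRing

variable {R : Type u} [CommRing R] [IsLocalRing R]

section exists_tuple

variable {M : Type v} [AddCommGroup M] [Module R M]

theorem exists_socle_above [IsArtinian R M] {N : Submodule R M} (hN : N ≠ ⊤) :
    ∃ y, y ∉ N ∧ ∀ r ∈ maximalIdeal R, r • y ∈ N := by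
  haveI : Nontrivial (M ⧸ N) := Submodule.Quotient.nontrivial_iff.mpr hN
  obtain ⟨S, hS, -⟩ := (eq_bot_or_exists_atom_le (⊤ : Submodule R (M ⧸ N))).resolve_left (top_ne_bot)
  obtain ⟨z, hz, hz0⟩ := Submodule.exists_mem_ne_zero_of_ne_bot hS.1
  obtain ⟨y, rfl⟩ := Submodule.Quotient.mk_surjective _ z
  refine ⟨y, fun h => hz0 ((Submodule.Quotient.mk_eq_zero _).mpr h), fun r hr => ?_⟩
  rw [← Submodule.Quotient.mk_eq_zero, Submodule.Quotient.mk_smul]
  by_contra hne
  have hle : R ∙ (r • Submodule.Quotient.mk y : M ⧸ N) ≤ S :=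
    (Submodule.span_singleton_le_iff_mem _ _).mpr (S.smul_mem r hz)
  have hbot : R ∙ (r • Submodule.Quotient.mk y : M ⧸ N) ≠ ⊥ := fun h =>
    hne (Submodule.span_singleton_eq_bot.mp h)
  have hy : Submodule.Quotient.mk y ∈ R ∙ (r • Submodule.Quotient.mk y : M ⧸ N) :=
    ((hS.le_iff.mp hle).resolve_left hbot).symm ▸ hz
  obtain ⟨a, ha⟩ := Submodule.mem_span_singleton.mp hy
  have hu : IsUnit (1 - a * r) :=
    isUnit_one_sub_self_of_mem_nonunits _ ((mem_maximalIdeal _).mp (Ideal.mul_mem_left _ a hr))
  refine hz0 ((Submodule.mem_bot R).mp ((Submodule.smul_mem_iff_of_isUnit ⊥ hu).mp ?_))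
  rw [Submodule.mem_bot, sub_smul, one_smul, mul_smul, ha, sub_self]

theorem exists_strict {l : ℕ} (hl : Module.length R M = l) : ∃ e : Adm R M l, Strict (R := R) e.1 := by
  obtain ⟨_, _⟩ := isFiniteLength_iff_isNoetherian_isArtinian.mp (isFiniteLength_of_length_eq hl)
  suffices ∀ i, i ≤ l → ∃ e : Adm R M i, Strict (R := R) e.1 from this l le_rfl
  intro i
  induction i with
  | zero => exact fun _ => ⟨⟨fun a => a.elim0, fun a => a.elim0⟩, fun a => a.elim0⟩
  | succ i IH =>
    intro hi
    obtain ⟨e, he⟩ := IH (by omega)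
    have hne : Submodule.span R (Set.range e.1) ≠ ⊤ := by
      intro h
      have := length_spanBefore_of_strict e he i le_rfl
      rw [spanBefore_top, h, Module.length_top, hl] at this
      norm_cast at this; omega
    obtain ⟨y, hy, hym⟩ := exists_socle_above hne
    have hpre : ∀ j : ℕ, j ≤ i → spanBefore R M (Fin.snoc (α := fun _ : Fin (i + 1) => M) e.1 y) j = spanBefore R M e.1 j := by
      intro j hj
      apply le_antisymm <;> rw [spanBefore, Submodule.span_le] <;> rintro _ ⟨k, hk, rfl⟩
      · cases k using Fin.lastCases with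
        | last => exact absurd (show i < j from hk) (by omega)
        | cast k => rw [Fin.snoc_castSucc]; exact mem_spanBefore e.1 (show (k : ℕ) < j from hk)
      · have := mem_spanBefore (R := R) (Fin.snoc (α := fun _ : Fin (i + 1) => M) e.1 y) (j := k.castSucc) (i := j) (show (k : ℕ) < j from hk)
        rwa [Fin.snoc_castSucc] at this
    refine ⟨⟨Fin.snoc (α := fun _ : Fin (i + 1) => M) e.1 y, fun k r hr => ?_⟩, fun k => ?_⟩
    · cases k using Fin.lastCases with
      | last => rw [Fin.val_last, hpre i le_rfl, Fin.snoc_last, spanBefore_top]; exact hym r hr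
      | cast k => rw [Fin.val_castSucc, hpre k k.isLt.le, Fin.snoc_castSucc]; exact e.2 k r hr
    · show Fin.snoc (α := fun _ : Fin (i + 1) => M) e.1 y k ∉ spanBefore R M (Fin.snoc (α := fun _ : Fin (i + 1) => M) e.1 y) k
      cases k using Fin.lastCases with
      | last => rw [Fin.val_last, hpre i le_rfl, Fin.snoc_last, spanBefore_top]; exact hy
      | cast k => rw [Fin.val_castSucc, hpre k k.isLt.le, Fin.snoc_castSucc]; exact he k

theorem IsDet.eq_zero_of_span_ne_top {l : ℕ} (hl : Module.length R M = l) {N : Type*} [AddCommGroup N]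
    [Module (ResidueField R) N] {ψ : Adm R M l → N} (h : IsDet ψ) (e : Adm R M l)
    (he : Submodule.span R (Set.range e.1) ≠ ⊤) : ψ e = 0 :=
  h.eq_zero e fun hs => he (span_eq_top_of_strict hl e hs)

end exists_tuple

section exact

variable {K : Type v} [AddCommGroup K] [Module R K] {L : Type v} [AddCommGroup L] [Module R L]
  {M : Type v} [AddCommGroup M] [Module R M] (f : K →ₗ[R] L) (g : L →ₗ[R] M)
  (hg : Function.Surjective g) (hfg : LinearMap.range f = LinearMap.ker g) {a b : ℕ}

/-- Concatenation of a tuple from `K` with a tuple in `L`. -/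
def cat (eK : Fin a → K) (t : Fin b → L) : Fin (a + b) → L :=
  Fin.addCases (fun i => f (eK i)) t

theorem cat_left (eK : Fin a → K) (t : Fin b → L) (i : Fin a) : cat f eK t (Fin.castAdd b i) = f (eK i) :=
  Fin.addCases_left i

theorem cat_right (eK : Fin a → K) (t : Fin b → L) (j : Fin b) : cat f eK t (Fin.natAdd a j) = t j :=
  Fin.addCases_right j

theorem map_spanBefore_le_cat (eK : Fin a → K) (t : Fin b → L) {i : ℕ} :
    (spanBefore R K eK i).map f ≤ spanBefore R L (cat f eK t) i := by
  rw [spanBefore, Submodule.map_span, Submodule.span_le]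
  rintro _ ⟨_, ⟨j, hj, rfl⟩, rfl⟩
  rw [← cat_left f eK t]
  exact mem_spanBefore _ (show ((Fin.castAdd b j : Fin (a + b)) : ℕ) < i from hj)

include hfg in
theorem mem_spanBefore_cat {eK : Fin a → K} (hK : Submodule.span R (Set.range eK) = ⊤) (t : Fin b → L) {j : ℕ} {z : L}
    (hz : g z ∈ spanBefore R M (g ∘ t) j) : z ∈ spanBefore R L (cat f eK t) (a + j) := by
  rw [spanBefore, Set.image_comp, ← Submodule.map_span] at hz
  obtain ⟨w, hw, hwz⟩ := hz
  have hker : z - w ∈ LinearMap.range f := by rw [hfg, LinearMap.mem_ker, map_sub, hwz, sub_self]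
  obtain ⟨k, hk⟩ := hker
  have h1 : f k ∈ spanBefore R L (cat f eK t) (a + j) := by
    refine spanBefore_mono _ (Nat.le_add_right a j) (map_spanBefore_le_cat f eK t ⟨k, ?_, rfl⟩)
    rw [spanBefore_top, hK]; trivial
  have h2 : w ∈ spanBefore R L (cat f eK t) (a + j) := by
    refine (Submodule.span_le.mpr ?_) hw
    rintro _ ⟨i, hi, rfl⟩
    rw [← cat_right f eK t]
    exact mem_spanBefore _ (show ((Fin.natAdd a i : Fin (a + b)) : ℕ) < a + j by simpa using hi)
  rw [hk] at h1
  simpa using add_mem h1 h2

include hfg in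
theorem isAdmissible_cat (eK : Adm R K a) (hK : Submodule.span R (Set.range eK.1) = ⊤) (t : Fin b → L)
    (ht : IsAdmissible R M (g ∘ t)) : IsAdmissible R L (cat f eK.1 t) := by
  intro i r hr
  cases i using Fin.addCases with
  | left i =>
    rw [cat_left, ← map_smul, Fin.val_castAdd]
    exact map_spanBefore_le_cat f eK.1 t ⟨_, eK.2 i r hr, rfl⟩
  | right j =>
    rw [cat_right, Fin.val_natAdd]
    refine mem_spanBefore_cat f g hfg hK t ?_
    rw [map_smul]
    exact ht j r hr

include hfg in
theorem span_cat (eK : Fin a → K) (hK : Submodule.span R (Set.range eK) = ⊤) (t : Fin b → L)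
    (ht : Submodule.span R (Set.range (g ∘ t)) = ⊤) : Submodule.span R (Set.range (cat f eK t)) = ⊤ := by
  refine eq_top_iff.mpr fun z _ => ?_
  rw [← spanBefore_top]
  refine mem_spanBefore_cat f g hfg hK t (j := b) ?_
  rw [spanBefore_top, ht]; trivial

/-- The symbol in `L` of a concatenation. -/
noncomputable def catSym (eK : Adm R K a) (hK : Submodule.span R (Set.range eK.1) = ⊤) (t : Fin b → L)
    (ht : IsAdmissible R M (g ∘ t)) : DetOfLen R L (a + b) :=
  Submodule.Quotient.mk (sym R L ⟨cat f eK.1 t, isAdmissible_cat f g hfg eK hK t ht⟩)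

theorem catSym_congr (eK : Adm R K a) (hK : Submodule.span R (Set.range eK.1) = ⊤) {t t' : Fin b → L}
    (ht : IsAdmissible R M (g ∘ t)) (ht' : IsAdmissible R M (g ∘ t')) (h : t = t') :
    catSym f g hfg eK hK t ht = catSym f g hfg eK hK t' ht' := by
  subst h; rfl

theorem catSym_eq_of_lift (eK : Adm R K a) (hK : Submodule.span R (Set.range eK.1) = ⊤) :
    ∀ (n : ℕ) (t t' : Fin b → L) (ht : IsAdmissible R M (g ∘ t)) (ht' : IsAdmissible R M (g ∘ t')),
      g ∘ t = g ∘ t' → (∀ j : Fin b, n ≤ (j : ℕ) → t j = t' j) →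
      catSym f g hfg eK hK t ht = catSym f g hfg eK hK t' ht'
  | 0, t, t', ht, ht', _, h => catSym_congr f g hfg eK hK ht ht' (funext fun j => h j (Nat.zero_le _))
  | n + 1, t, t', ht, ht', hgt, h => by
    by_cases hn : n < b
    swap
    · exact catSym_eq_of_lift eK hK n t t' ht ht' hgt fun j hj => absurd (lt_of_le_of_lt hj j.isLt) hn
    let jn : Fin b := ⟨n, hn⟩
    let t'' : Fin b → L := Function.update t jn (t' jn)
    have hg'' : g ∘ t'' = g ∘ t := funext fun j => by
      by_cases hj : j = jn
      · subst hj; simp [t'', ← show g (t jn) = g (t' jn) from congrFun hgt jn]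
      · simp [t'', Function.update_of_ne hj]
    have ht'' : IsAdmissible R M (g ∘ t'') := hg''.symm ▸ ht
    rw [← catSym_eq_of_lift eK hK n t'' t' ht'' ht' (hg''.trans hgt) fun j hj => by
      rcases Nat.eq_or_lt_of_le hj with h' | h'
      · rw [show j = jn from Fin.ext h'.symm]; simp [t'']
      · rw [show t'' j = t j from Function.update_of_ne (fun h => by rw [h] at h'; simp [jn] at h') _ _, h j h']]
    have := (isDet_mk (R := R) (M := L) (a + b)).scale ⟨cat f eK.1 t, isAdmissible_cat f g hfg eK hK t ht⟩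
      ⟨cat f eK.1 t'', isAdmissible_cat f g hfg eK hK t'' ht''⟩ (Fin.natAdd a jn) 1
      (fun i hi => by
        show cat f eK.1 t i = cat f eK.1 t'' i
        cases i using Fin.addCases with
        | left i => rw [cat_left, cat_left]
        | right j => rw [cat_right, cat_right, show t'' j = t j from Function.update_of_ne (fun h => hi (congrArg _ h)) _ _])
      (by
        show cat f eK.1 t _ - _ • cat f eK.1 t'' _ ∈ _
        rw [cat_right, cat_right, Units.val_one, one_smul, show t'' jn = t' jn from Function.update_self _ _ _, Fin.val_natAdd]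
        refine mem_spanBefore_cat f g hfg hK t ?_
        rw [map_sub, show g (t jn) = g (t' jn) from congrFun hgt jn, sub_self]
        exact zero_mem _)
    rwa [Units.val_one, map_one, one_smul] at this

variable (hKl : Module.length R K = a)

/-- Dependence on the `K`-part. -/
noncomputable def kFun (t : Fin b → L) (ht : IsAdmissible R M (g ∘ t)) (eK : Adm R K a) : DetOfLen R L (a + b) :=
  open Classical in if h : Submodule.span R (Set.range eK.1) = ⊤ then catSym f g hfg eK h t ht else 0

include hKl in
theorem isDet_kFun (t : Fin b → L) (ht : IsAdmissible R M (g ∘ t)) : IsDet (kFun (a := a) f g hfg t ht) where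
  zero e i h := by
    rw [kFun, dif_neg fun hs => strict_of_span_eq_top hKl e hs i h]
  scale e e' i c h1 h2 := by
    have hsp : Submodule.span R (Set.range e.1) = Submodule.span R (Set.range e'.1) := by
      rw [← spanBefore_top, ← spanBefore_top, spanBefore_eq_of_scale c h1 h2]
    by_cases h : Submodule.span R (Set.range e.1) = ⊤
    · rw [kFun, kFun, dif_pos h, dif_pos (hsp ▸ h)]
      refine (isDet_mk (R := R) (M := L) (a + b)).scale _ _ (Fin.castAdd b i) c (fun k hk => ?_) ?_
      · show cat f e.1 t k = cat f e'.1 t k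
        cases k using Fin.addCases with
        | left k => rw [cat_left, cat_left, h1 k fun h => hk (h ▸ rfl)]
        | right j => rw [cat_right, cat_right]
      · show cat f e.1 t _ - _ • cat f e'.1 t _ ∈ _
        rw [cat_left, cat_left, ← map_smul, ← map_sub, Fin.val_castAdd]
        exact map_spanBefore_le_cat f e.1 t ⟨_, h2, rfl⟩
    · rw [kFun, kFun, dif_neg h, dif_neg (hsp ▸ h), smul_zero]
  swap e e' i j hij h2 h3 := by
    have hsp : Submodule.span R (Set.range e.1) = Submodule.span R (Set.range e'.1) := by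
      rw [h3, EquivLike.range_comp]
    by_cases h : Submodule.span R (Set.range e.1) = ⊤
    · rw [kFun, kFun, dif_pos h, dif_pos (hsp ▸ h)]
      refine (isDet_mk (R := R) (M := L) (a + b)).swap _ _ (Fin.castAdd b i) (Fin.castAdd b j) (by simpa using hij)
        (fun r hr => ?_) (funext fun k => ?_)
      · show r • cat f e.1 t _ ∈ _
        rw [cat_left, ← map_smul, Fin.val_castAdd]
        exact map_spanBefore_le_cat f e.1 t ⟨_, h2 r hr, rfl⟩
      · show cat f e'.1 t k = cat f e.1 t (Equiv.swap _ _ k)
        cases k using Fin.addCases with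
        | left k => rw [(Fin.castAdd_injective a b).swap_apply, cat_left, cat_left, h3]; rfl
        | right k =>
          rw [Equiv.swap_apply_of_ne_of_ne (fun h => by simp [Fin.ext_iff] at h; omega) (fun h => by simp [Fin.ext_iff] at h; omega),
            cat_right, cat_right]
    · rw [kFun, kFun, dif_neg h, dif_neg (hsp ▸ h), add_zero]

include hg in
theorem exists_section : ∃ s : M → L, ∀ m, g (s m) = m := ⟨Function.surjInv hg, Function.surjInv_eq hg⟩

variable (s : M → L) (hs : ∀ m, g (s m) = m)

include hs in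
theorem isAdmissible_section (eM : Adm R M b) : IsAdmissible R M (g ∘ (s ∘ eM.1)) := by
  have : g ∘ (s ∘ eM.1) = eM.1 := funext fun _ => hs _
  rw [this]; exact eM.2

/-- Dependence on the `M`-part. -/
noncomputable def mFun (eK : Adm R K a) (hK : Submodule.span R (Set.range eK.1) = ⊤) (eM : Adm R M b) :
    DetOfLen R L (a + b) :=
  catSym f g hfg eK hK (s ∘ eM.1) (isAdmissible_section g s hs eM)

theorem isDet_mFun (eK : Adm R K a) (hK : Submodule.span R (Set.range eK.1) = ⊤) :
    IsDet (mFun (b := b) f g hfg s hs eK hK) where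
  zero e i h := by
    refine (isDet_mk (R := R) (M := L) (a + b)).zero _ (Fin.natAdd a i) ?_
    show cat f eK.1 _ _ ∈ _
    rw [cat_right, Fin.val_natAdd]
    refine mem_spanBefore_cat f g hfg hK _ ?_
    rw [show g ∘ (s ∘ e.1) = e.1 from funext fun _ => hs _, Function.comp_apply, hs]
    exact h
  scale e e' i c h1 h2 := by
    refine (isDet_mk (R := R) (M := L) (a + b)).scale _ _ (Fin.natAdd a i) c (fun k hk => ?_) ?_
    · show cat f eK.1 _ k = cat f eK.1 _ k
      cases k using Fin.addCases with
      | left k => rw [cat_left, cat_left]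
      | right j => rw [cat_right, cat_right, Function.comp_apply, Function.comp_apply, h1 j fun h => hk (h ▸ rfl)]
    · show cat f eK.1 _ _ - _ • cat f eK.1 _ _ ∈ _
      rw [cat_right, cat_right, Fin.val_natAdd]
      refine mem_spanBefore_cat f g hfg hK _ ?_
      rw [show g ∘ (s ∘ e.1) = e.1 from funext fun _ => hs _, map_sub, map_smul, Function.comp_apply, Function.comp_apply, hs, hs]
      exact h2
  swap e e' i j hij h2 h3 := by
    refine (isDet_mk (R := R) (M := L) (a + b)).swap _ _ (Fin.natAdd a i) (Fin.natAdd a j) (by simp; omega)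
      (fun r hr => ?_) (funext fun k => ?_)
    · show r • cat f eK.1 _ _ ∈ _
      rw [cat_right, Fin.val_natAdd]
      refine mem_spanBefore_cat f g hfg hK _ ?_
      rw [show g ∘ (s ∘ e.1) = e.1 from funext fun _ => hs _, map_smul, Function.comp_apply, hs]
      exact h2 r hr
    · show cat f eK.1 _ k = cat f eK.1 _ (Equiv.swap _ _ k)
      cases k using Fin.addCases with
      | left k =>
        rw [Equiv.swap_apply_of_ne_of_ne (fun h => by simp [Fin.ext_iff] at h; omega) (fun h => by simp [Fin.ext_iff] at h; omega),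
          cat_left, cat_left]
      | right k => rw [(Fin.natAdd_injective b a).swap_apply, cat_right, cat_right, h3]; rfl

end exact

theorem exists_gamma {K L M : Type v} [AddCommGroup K] [Module R K] [AddCommGroup L] [Module R L]
    [AddCommGroup M] [Module R M] {a b l : ℕ} (hKl : Module.length R K = a) (hMl : Module.length R M = b)
    (f : K →ₗ[R] L) (g : L →ₗ[R] M) (hf : Function.Injective f) (hg : Function.Surjective g)
    (hfg : LinearMap.range f = LinearMap.ker g) (hl : a + b = l) :
    ∃ γ : (DetOfLen R K a ⊗[ResidueField R] DetOfLen R M b) ≃ₗ[ResidueField R] DetOfLen R L l,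
      ∀ (eK : Adm R K a) (eM : Adm R M b) (eL : Adm R L l),
        (Submodule.Quotient.mk (sym R K eK) : DetOfLen R K a) ≠ 0 →
        (∀ i : Fin a, eL.1 (Fin.cast hl (Fin.castAdd b i)) = f (eK.1 i)) →
        (∀ j : Fin b, g (eL.1 (Fin.cast hl (Fin.natAdd a j))) = eM.1 j) →
        γ (Submodule.Quotient.mk (sym R K eK) ⊗ₜ Submodule.Quotient.mk (sym R M eM)) =
          Submodule.Quotient.mk (sym R L eL) := by
  subst hl
  have hLl : Module.length R L = ((a + b : ℕ) : ℕ∞) := by
    rw [Module.length_eq_add_of_exact f g hf hg (LinearMap.exact_iff.mpr hfg.symm), hKl, hMl, Nat.cast_add]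
  obtain ⟨k0, hk0⟩ := exists_strict hKl
  obtain ⟨m0, hm0⟩ := exists_strict hMl
  have hk0' := span_eq_top_of_strict hKl k0 hk0
  have hm0' := span_eq_top_of_strict hMl m0 hm0
  obtain ⟨s, hs⟩ := exists_section g hg
  let A := (isDet_mFun (b := b) f g hfg s hs k0 hk0').lift
  let x0 : DetOfLen R K a := Submodule.Quotient.mk (sym R K k0)
  have hx0 : x0 ≠ 0 := exists_linearMap_ne_zero hKl k0 hk0'
  have hspan := span_symbol hKl k0 hk0
  have hline : ∀ x : DetOfLen R K a, ∃ r : ResidueField R, r • x0 = x := fun x =>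
    Submodule.mem_span_singleton.mp (hspan.symm ▸ Submodule.mem_top)
  choose co hco using hline
  have hco_uniq : ∀ (r : ResidueField R) x, r • x0 = x → co x = r := fun r x h =>
    smul_left_injective _ hx0 ((hco x).trans h.symm)
  let coL : DetOfLen R K a →ₗ[ResidueField R] ResidueField R :=
    { toFun := co
      map_add' := fun x y => hco_uniq _ _ (by rw [add_smul, hco, hco])
      map_smul' := fun r x => hco_uniq _ _ (by rw [RingHom.id_apply, smul_assoc, hco]) }
  let G : (DetOfLen R K a ⊗[ResidueField R] DetOfLen R M b) →ₗ[ResidueField R] DetOfLen R L (a + b) :=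
    TensorProduct.lift ((LinearMap.lsmul (ResidueField R) (DetOfLen R L (a + b))).compl₂ A ∘ₗ coL)
  have hG : ∀ x y, G (x ⊗ₜ y) = co x • A y := fun x y => by simp [G, coL]
  have hco0 : co x0 = 1 := hco_uniq _ _ (one_smul _ _)
  let y0 : DetOfLen R M b := Submodule.Quotient.mk (sym R M m0)
  have hne : G (x0 ⊗ₜ y0) ≠ 0 := by
    rw [hG, hco0, one_smul, show A y0 = _ from (isDet_mFun (b := b) f g hfg s hs k0 hk0').lift_mk m0]
    refine exists_linearMap_ne_zero hLl _ (span_cat f g hfg k0.1 hk0' _ ?_)
    rw [show g ∘ (s ∘ m0.1) = m0.1 from funext fun _ => hs _]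
    exact hm0'
  have hT : ∀ z : DetOfLen R K a ⊗[ResidueField R] DetOfLen R M b, ∃ r : ResidueField R, r • (x0 ⊗ₜ y0) = z := by
    intro z
    induction z using TensorProduct.induction_on with
    | zero => exact ⟨0, zero_smul _ _⟩
    | add z w hz hw => obtain ⟨r, rfl⟩ := hz; obtain ⟨r', rfl⟩ := hw; exact ⟨r + r', add_smul _ _ _⟩
    | tmul x y =>
      obtain ⟨r', rfl⟩ := Submodule.mem_span_singleton.mp
        ((span_symbol hMl m0 hm0).symm ▸ Submodule.mem_top : y ∈ Submodule.span (ResidueField R) {y0})
      exact ⟨r' * co x, by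
        rw [mul_smul, TensorProduct.smul_tmul', hco, ← TensorProduct.tmul_smul]⟩
  obtain ⟨lf, hlf⟩ := exists_strict hLl
  have hbij : Function.Bijective G := by
    refine ⟨fun z w h => ?_, fun w => ?_⟩
    · obtain ⟨r, rfl⟩ := hT z; obtain ⟨r', rfl⟩ := hT w
      rw [map_smul, map_smul] at h
      rw [smul_left_injective _ hne h]
    · have hL := span_symbol hLl lf hlf
      obtain ⟨r, hr⟩ := Submodule.mem_span_singleton.mp (hL.symm ▸ Submodule.mem_top : G (x0 ⊗ₜ y0) ∈ _)
      obtain ⟨c, rfl⟩ := Submodule.mem_span_singleton.mp (hL.symm ▸ Submodule.mem_top : w ∈ _)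
      have hr0 : r ≠ 0 := fun h => hne (by rw [← hr, h, zero_smul])
      exact ⟨(c * r⁻¹) • (x0 ⊗ₜ y0), by rw [map_smul, ← hr, smul_smul, inv_mul_cancel_right₀ hr0]⟩
  refine ⟨LinearEquiv.ofBijective G hbij, fun eK eM eL hne' h1 h2 => ?_⟩
  have hK : Submodule.span R (Set.range eK.1) = ⊤ := by
    by_contra h
    exact hne' ((isDet_mk (R := R) (M := K) a).eq_zero_of_span_ne_top hKl eK h)
  let t : Fin b → L := fun j => eL.1 (Fin.natAdd a j)
  have hgt : g ∘ t = eM.1 := funext fun j => h2 j
  have ht : IsAdmissible R M (g ∘ t) := hgt.symm ▸ eM.2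
  have heL : (Submodule.Quotient.mk (sym R L eL) : DetOfLen R L (a + b)) = catSym f g hfg eK hK t ht := by
    unfold catSym
    congr 2
    refine Subtype.ext (funext fun k => ?_)
    cases k using Fin.addCases with
    | left i => exact (h1 i).trans (cat_left f eK.1 t i).symm
    | right j => exact (cat_right f eK.1 t j).symm
  show G _ = _
  rw [hG, show A _ = _ from (isDet_mFun (b := b) f g hfg s hs k0 hk0').lift_mk eM, heL,
    catSym_eq_of_lift f g hfg eK hK b t (s ∘ eM.1) ht (isAdmissible_section g s hs eM)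
      (by rw [hgt]; exact (funext fun _ => hs _).symm) (fun j hj => absurd j.isLt (by omega))]
  set u := s ∘ eM.1
  have hu := isAdmissible_section g s hs eM
  have hB := isDet_kFun f g hfg hKl u hu
  have e1 : hB.lift (Submodule.Quotient.mk (sym R K eK)) = catSym f g hfg eK hK u hu := by
    rw [hB.lift_mk, kFun, dif_pos hK]
  have e0 : hB.lift x0 = mFun f g hfg s hs k0 hk0' eM := by
    rw [hB.lift_mk, kFun, dif_pos hk0']; rfl
  rw [← e1, ← e0, ← map_smul, hco]

end Groth.Agent.CycDetLib
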