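import Mathlib
import Groth.Prelude.Def_CycDet
import Groth.Prelude.Def_Tame
import Groth.Agent.CycDetLib.Periodic

/-!
# Tuples filtering a module with quotients R/q
-/

set_option autoImplicit false

universe u

open IsLocalRing CycDet Groth.Agent.CycAlgLib

namespace Groth.Agent.CycDetLib

variable {R : Type u} [CommRing R] [IsLocalRing R] {M : Type u} [AddCommGroup M] [Module R M]

/-- the tuple filters its span with quotients R/P -/
def Filtered (P : Ideal R) {l : ℕ} (x : Fin l → M) : Prop :=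
  ∀ (i : Fin l) (r : R), r • x i ∈ spanBefore R M x i ↔ r ∈ P

theorem filtered_iff (P : Ideal R) {l : ℕ} (x : Fin l → M) :
    Filtered P x ↔ ∀ i : Fin l, Nonempty ((↥(spanBefore R M x (i + 1)) ⧸
      (spanBefore R M x i).submoduleOf (spanBefore R M x (i + 1))) ≃ₗ[R] (R ⧸ P)) := by
  refine forall_congr' fun i ↦ ?_
  have hmem : x i ∈ spanBefore R M x (i + 1) := mem_spanBefore x (Nat.lt_succ_self _)
  let g : R →ₗ[R] ↥(spanBefore R M x (i + 1)) ⧸ (spanBefore R M x i).submoduleOf (spanBefore R M x (i + 1)) :=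
    LinearMap.toSpanSingleton R _ (Submodule.Quotient.mk ⟨x i, hmem⟩)
  have hsurj : Function.Surjective g := fun z ↦ by
    obtain ⟨⟨z, hz⟩, rfl⟩ := Submodule.Quotient.mk_surjective _ z
    have hz' := hz
    rw [spanBefore_succ x i, Submodule.mem_sup] at hz'
    obtain ⟨y, hy, w, hw, e⟩ := hz'
    obtain ⟨c, rfl⟩ := Submodule.mem_span_singleton.mp hw
    refine ⟨c, ?_⟩
    rw [LinearMap.toSpanSingleton_apply, ← Submodule.Quotient.mk_smul, Submodule.Quotient.eq]
    change c • x i - z ∈ spanBefore R M x i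
    rw [← e, sub_add_cancel_right]
    exact neg_mem hy
  have hker : ∀ r, r ∈ LinearMap.ker g ↔ r • x i ∈ spanBefore R M x i := fun r ↦ by
    rw [LinearMap.mem_ker, LinearMap.toSpanSingleton_apply, ← Submodule.Quotient.mk_smul, Submodule.Quotient.mk_eq_zero]
    rfl
  constructor
  · intro h
    exact ⟨(LinearMap.quotKerEquivOfSurjective g hsurj).symm.trans
      (Submodule.quotEquivOfEq _ _ (Submodule.ext fun r ↦ (hker r).trans (h r)))⟩
  · rintro ⟨e⟩ r
    rw [← hker]
    constructor
    · intro h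
      have h2 : ∀ z, r • z = (0 : ↥(spanBefore R M x (i + 1)) ⧸
          (spanBefore R M x i).submoduleOf (spanBefore R M x (i + 1))) := fun z ↦ by
        obtain ⟨c, rfl⟩ := hsurj z
        rw [← map_smul, smul_eq_mul, mul_comm, ← smul_eq_mul, map_smul, LinearMap.mem_ker.mp h, smul_zero]
      have h3 := congrArg e (h2 (e.symm (Submodule.Quotient.mk 1)))
      rw [map_smul, e.apply_symm_apply, map_zero, ← Submodule.Quotient.mk_smul, Submodule.Quotient.mk_eq_zero,
        smul_eq_mul, mul_one] at h3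
      exact h3
    · intro h
      refine e.injective ?_
      rw [map_zero, show g r = r • g 1 by rw [← map_smul, smul_eq_mul, mul_one], map_smul]
      obtain ⟨c, hc⟩ := Submodule.Quotient.mk_surjective P (e (g 1))
      rw [← hc, ← Submodule.Quotient.mk_smul, Submodule.Quotient.mk_eq_zero]
      exact Ideal.mul_mem_right c P h

theorem spanBefore_snoc {l : ℕ} (x : Fin l → M) (y : M) {i : ℕ} (hi : i ≤ l) :
    spanBefore R M (Fin.snoc x y) i = spanBefore R M x i := by
  unfold spanBefore
  congr 1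
  ext z
  constructor
  · rintro ⟨j, hj, rfl⟩
    have hjl : (j : ℕ) < l := lt_of_lt_of_le hj hi
    refine ⟨⟨j, hjl⟩, hj, ?_⟩
    simp [Fin.snoc, hjl]; rfl
  · rintro ⟨j, hj, rfl⟩
    exact ⟨j.castSucc, hj, by rw [Fin.snoc_castSucc]⟩

theorem Filtered.snoc {P : Ideal R} {l : ℕ} {x : Fin l → M} (hx : Filtered P x) {y : M}
    (hy : ∀ r, r • y ∈ Submodule.span R (Set.range x) ↔ r ∈ P) : Filtered P (Fin.snoc x y) := by
  intro i r
  induction i using Fin.lastCases with
  | last =>
    rw [Fin.val_last, spanBefore_snoc x y le_rfl, spanBefore_top, Fin.snoc_last]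
    exact hy r
  | cast j =>
    rw [Fin.val_castSucc, spanBefore_snoc x y j.2.le, Fin.snoc_castSucc]
    exact hx j r

/-- outside P nothing kills an element of the span -/
theorem Filtered.torsionFree {P : Ideal R} [P.IsPrime] {l : ℕ} {x : Fin l → M} (hx : Filtered P x) {u : R}
    (hu : u ∉ P) : ∀ i : ℕ, i ≤ l → ∀ v ∈ spanBefore R M x i, u • v = 0 → v = 0 := by
  intro i
  induction i with
  | zero =>
    intro _ v hv _
    rwa [spanBefore_zero, Submodule.mem_bot] at hv
  | succ i IH =>
    intro hi v hv h0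
    rw [spanBefore_succ x ⟨i, hi⟩, Submodule.mem_sup] at hv
    obtain ⟨y, hy, w, hw, rfl⟩ := hv
    obtain ⟨c, rfl⟩ := Submodule.mem_span_singleton.mp hw
    have hmem : (u * c) • x ⟨i, hi⟩ ∈ spanBefore R M x i := by
      rw [mul_smul]
      rw [smul_add] at h0
      rw [eq_neg_of_add_eq_zero_right h0]
      exact neg_mem (Submodule.smul_mem _ _ hy)
    have hcP : c ∈ P := (Ideal.IsPrime.mem_or_mem inferInstance ((hx ⟨i, hi⟩ _).mp hmem)).resolve_left hu
    exact IH (by omega) _ (add_mem hy ((hx ⟨i, hi⟩ c).mpr hcP)) h0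

section Image

variable {P : Ideal R} [P.IsPrime] {V : Type u} [AddCommGroup V] [Module R V] [Module (Localization.AtPrime P) V]
  [IsScalarTower R (Localization.AtPrime P) V] (ι : M →ₗ[R] V) [IsLocalizedModule P.primeCompl ι]

omit [IsLocalRing R] in
theorem exists_num_smul (c : Localization.AtPrime P) : ∃ (r : R) (d : R), d ∉ P ∧
    ∀ v : V, d • c • v = r • v := by
  obtain ⟨r, d, rfl⟩ := IsLocalization.exists_mk'_eq P.primeCompl c
  refine ⟨r, d, d.2, fun v ↦ ?_⟩
  rw [← IsScalarTower.algebraMap_smul (Localization.AtPrime P) (d : R), smul_smul,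
    IsLocalization.mk'_spec', IsScalarTower.algebraMap_smul]

omit [IsLocalRing R] in
theorem clear_mem_map {l : ℕ} (x : Fin l → M) (i : ℕ) (v : V)
    (hv : v ∈ spanBefore (Localization.AtPrime P) V (fun j ↦ ι (x j)) i) :
    ∃ u ∉ P, u • v ∈ (Submodule.span R (x '' {j : Fin l | (j : ℕ) < i})).map ι := by
  unfold spanBefore at hv
  induction hv using Submodule.span_induction with
  | mem w hw =>
    obtain ⟨j, hj, rfl⟩ := hw
    exact ⟨1, Ideal.IsPrime.one_notMem inferInstance, x j, Submodule.subset_span ⟨j, hj, rfl⟩, (one_smul _ _).symm⟩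
  | zero => exact ⟨1, Ideal.IsPrime.one_notMem inferInstance, by rw [smul_zero]; exact zero_mem _⟩
  | add a b _ _ ha hb =>
    obtain ⟨u, hu, hua⟩ := ha
    obtain ⟨w, hw, hwb⟩ := hb
    refine ⟨u * w, fun h ↦ (Ideal.IsPrime.mem_or_mem inferInstance h).elim hu hw, ?_⟩
    rw [smul_add]
    refine add_mem ?_ ?_
    · rw [mul_comm, mul_smul]; exact Submodule.smul_mem _ _ hua
    · rw [mul_smul]; exact Submodule.smul_mem _ _ hwb
  | smul c a _ ha =>
    obtain ⟨u, hu, hua⟩ := ha
    obtain ⟨r, d, hd, hcd⟩ := exists_num_smul (V := V) c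
    refine ⟨u * d, fun h ↦ (Ideal.IsPrime.mem_or_mem inferInstance h).elim hu hd, ?_⟩
    rw [mul_smul, hcd, smul_comm]
    exact Submodule.smul_mem _ _ hua

theorem Filtered.admissible_image {l : ℕ} {x : Fin l → M} (hx : Filtered P x) :
    IsAdmissible (Localization.AtPrime P) V (fun i ↦ ι (x i)) := by
  intro i c hc
  obtain ⟨r, d, rfl⟩ := IsLocalization.exists_mk'_eq P.primeCompl c
  have hr : r ∈ P := (IsLocalization.AtPrime.mk'_mem_maximal_iff _ P r d).mp hc
  have hmem : ι (r • x i) ∈ spanBefore (Localization.AtPrime P) V (fun i ↦ ι (x i)) i := by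
    have hle : (spanBefore R M x i).map ι ≤
        (spanBefore (Localization.AtPrime P) V (fun i ↦ ι (x i)) i).restrictScalars R := by
      unfold spanBefore
      rw [Submodule.map_span, Submodule.span_le]
      rintro _ ⟨_, ⟨j, hj, rfl⟩, rfl⟩
      exact Submodule.subset_span ⟨j, hj, rfl⟩
    exact hle ⟨_, (hx i r).mpr hr, rfl⟩
  rw [IsLocalization.mk'_eq_mul_mk'_one, mul_comm, mul_smul, IsScalarTower.algebraMap_smul, ← map_smul]
  exact Submodule.smul_mem _ _ hmem

theorem Filtered.strict_image {l : ℕ} {x : Fin l → M} (hx : Filtered P x) :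
    Strict (R := Localization.AtPrime P) (fun i ↦ ι (x i)) := by
  intro i h
  obtain ⟨u, hu, m, hm, e⟩ := clear_mem_map ι x i _ h
  rw [← map_smul] at e
  obtain ⟨c, hc⟩ := (IsLocalizedModule.eq_iff_exists P.primeCompl ι).mp e
  refine c.2 ((Ideal.IsPrime.mem_or_mem inferInstance ((hx i ((c : R) * u)).mp ?_)).resolve_right hu)
  rw [mul_smul]
  exact (show (c : R) • m = (c : R) • u • x i from hc) ▸ Submodule.smul_mem _ _ hm

omit [IsLocalRing R] in
theorem span_image_eq_top {l : ℕ} (x : Fin l → M)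
    (hx : ∀ m : M, ∃ u ∉ P, u • m ∈ Submodule.span R (Set.range x)) :
    Submodule.span (Localization.AtPrime P) (Set.range fun i ↦ ι (x i)) = ⊤ := by
  refine eq_top_iff.mpr fun v _ ↦ ?_
  obtain ⟨⟨m, s⟩, hm⟩ := IsLocalizedModule.surj P.primeCompl ι v
  obtain ⟨u, hu, hum⟩ := hx m
  have hle : (Submodule.span R (Set.range x)).map ι ≤
      (Submodule.span (Localization.AtPrime P) (Set.range fun i ↦ ι (x i))).restrictScalars R := by
    rw [Submodule.map_span, Submodule.span_le]
    rintro _ ⟨_, ⟨j, rfl⟩, rfl⟩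
    exact Submodule.subset_span ⟨j, rfl⟩
  have h1 : (u * (s : R)) • v ∈ Submodule.span (Localization.AtPrime P) (Set.range fun i ↦ ι (x i)) := by
    have h2 : ι (u • m) = (u * (s : R)) • v := by
      rw [map_smul, mul_smul]
      exact congrArg (u • ·) hm.symm
    exact h2 ▸ hle ⟨_, hum, rfl⟩
  rw [← IsScalarTower.algebraMap_smul (Localization.AtPrime P)] at h1
  exact (Submodule.smul_mem_iff_of_isUnit _
    (IsLocalization.map_units (Localization.AtPrime P) (⟨u, hu⟩ * s : P.primeCompl))).mp h1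

include ι in
theorem Filtered.length_eq {l : ℕ} {x : Fin l → M} (hx : Filtered P x)
    (hgen : ∀ m : M, ∃ u ∉ P, u • m ∈ Submodule.span R (Set.range x)) :
    Module.length (Localization.AtPrime P) V = l := by
  have h := length_spanBefore_of_strict (⟨_, hx.admissible_image ι⟩ : Adm (Localization.AtPrime P) V l)
    (hx.strict_image ι) l le_rfl
  simp only at h
  rw [spanBefore_top, span_image_eq_top ι x hgen, Module.length_top] at h
  exact h

omit [IsLocalRing R] [Module (Localization.AtPrime P) V] [IsScalarTower R (Localization.AtPrime P) V] in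
theorem injective_localized (hfree : ∀ u ∉ P, ∀ m : M, u • m = 0 → m = 0) : Function.Injective ι := by
  rw [injective_iff_map_eq_zero]
  intro m hm
  obtain ⟨c, hc⟩ := (IsLocalizedModule.eq_iff_exists P.primeCompl ι (x₁ := m) (x₂ := 0)).mp (by rw [hm, map_zero])
  rw [smul_zero] at hc
  exact hfree c c.2 m hc

end Image

section Exists

variable [IsNoetherianRing R] [Module.Finite R M]

theorem exists_filtered (q : PrimeSpectrum R) (hq : Minimal (fun p : PrimeSpectrum R => p ∈ Module.support R M) q) :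
    ∃ (l : ℕ) (x : Fin l → M), Filtered q.asIdeal x ∧ q ∉ Module.support R (M ⧸ Submodule.span R (Set.range x)) := by
  haveI : IsNoetherian R M := isNoetherian_of_isNoetherianRing_of_finite R M
  let S : Set (Submodule R M) :=
    {N | ∃ (l : ℕ) (x : Fin l → M), Filtered q.asIdeal x ∧ Submodule.span R (Set.range x) = N}
  obtain ⟨N, ⟨l, x, hx, rfl⟩, hmax⟩ := set_has_maximal_iff_noetherian.mpr inferInstance S
    ⟨⊥, 0, Fin.elim0, fun i ↦ i.elim0, by simp⟩
  refine ⟨l, x, hx, fun hsupp ↦ ?_⟩
  set Q := M ⧸ Submodule.span R (Set.range x)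
  have hmin : q.asIdeal ∈ (Module.annihilator R Q).minimalPrimes := by
    refine ⟨⟨q.2, (PrimeSpectrum.mem_zeroLocus _ _).mp (Module.support_eq_zeroLocus (R := R) (M := Q) ▸ hsupp)⟩, ?_⟩
    rintro p ⟨hp, hpann⟩ hpq
    have hpQ : (⟨p, hp⟩ : PrimeSpectrum R) ∈ Module.support R Q := by
      rw [Module.support_eq_zeroLocus, PrimeSpectrum.mem_zeroLocus]; exact hpann
    have hpM : (⟨p, hp⟩ : PrimeSpectrum R) ∈ Module.support R M :=
      Module.support_subset_of_surjective (Submodule.mkQ _) (Submodule.mkQ_surjective _) hpQ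
    exact hq.2 hpM hpq
  have hass : q.asIdeal ∈ associatedPrimes R Q :=
    Module.associatedPrimes.minimalPrimes_annihilator_subset_associatedPrimes R Q hmin
  obtain ⟨-, z, hz⟩ := (isAssociatedPrime_iff_exists_injective_linearMap q.asIdeal Q).mp hass
  obtain ⟨y, hy⟩ := Submodule.Quotient.mk_surjective _ (z (Submodule.Quotient.mk 1))
  have key : ∀ r, r • y ∈ Submodule.span R (Set.range x) ↔ r ∈ q.asIdeal := fun r ↦ by
    rw [← Submodule.Quotient.mk_eq_zero (p := Submodule.span R (Set.range x)), Submodule.Quotient.mk_smul, hy,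
      ← map_smul, ← map_zero z, hz.eq_iff, ← Submodule.Quotient.mk_smul, Submodule.Quotient.mk_eq_zero, smul_eq_mul,
      mul_one]
  refine hmax (Submodule.span R (Set.range (Fin.snoc x y))) ⟨l + 1, _, hx.snoc key, rfl⟩ ?_
  refine lt_of_le_of_ne (Submodule.span_mono ?_) fun e ↦ ?_
  · rintro _ ⟨j, rfl⟩
    exact ⟨j.castSucc, by rw [Fin.snoc_castSucc]⟩
  · have hy' : y ∈ Submodule.span R (Set.range x) := e ▸ Submodule.subset_span ⟨Fin.last l, Fin.snoc_last _ _⟩
    exact q.2.one_notMem ((key 1).mp (by rwa [one_smul]))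

omit [IsNoetherianRing R] [Module.Finite R M] in
theorem gen_of_notMem_support (q : PrimeSpectrum R) {N : Submodule R M} (h : q ∉ Module.support R (M ⧸ N)) (m : M) :
    ∃ u ∉ q.asIdeal, u • m ∈ N := by
  obtain ⟨u, hu, h0⟩ := Module.notMem_support_iff'.mp h (Submodule.Quotient.mk m)
  exact ⟨u, hu, (Submodule.Quotient.mk_eq_zero _).mp (by rw [Submodule.Quotient.mk_smul]; exact h0)⟩

end Exists

section Coker

variable [IsNoetherianRing R] {N : Type u} [AddCommGroup N] [Module R N]

omit [IsNoetherianRing R] in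
theorem gen_of_span_top (q : PrimeSpectrum R) {l : ℕ} {x : Fin l → M} (hx : Submodule.span R (Set.range x) = ⊤)
    (m : M) : ∃ u ∉ q.asIdeal, u • m ∈ Submodule.span R (Set.range x) :=
  ⟨1, q.2.one_notMem, by rw [hx]; exact Submodule.mem_top⟩

omit [IsNoetherianRing R] in
theorem torsionFree_of_span_top (q : PrimeSpectrum R) {l : ℕ} {x : Fin l → M} (hx : Filtered q.asIdeal x)
    (htop : Submodule.span R (Set.range x) = ⊤) : ∀ u ∉ q.asIdeal, ∀ m : M, u • m = 0 → m = 0 :=
  fun _ hu m h0 ↦ hx.torsionFree hu l le_rfl m (by rw [spanBefore_top, htop]; exact Submodule.mem_top) h0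

omit [IsNoetherianRing R] in
theorem injective_iff_bijective (q : PrimeSpectrum R) (φ : M →ₗ[R] N) {l : ℕ} {x : Fin l → M} {y : Fin l → N}
    (hx : Submodule.span R (Set.range x) = ⊤) (hy : Submodule.span R (Set.range y) = ⊤)
    (hxq : Filtered q.asIdeal x) (hyq : Filtered q.asIdeal y) :
    Function.Injective φ ↔ Function.Bijective (LocalizedModule.map q.asIdeal.primeCompl φ) := by
  set ιM := LocalizedModule.mkLinearMap q.asIdeal.primeCompl M
  set ιN := LocalizedModule.mkLinearMap q.asIdeal.primeCompl N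
  have hM := hxq.length_eq ιM (gen_of_span_top q hx)
  have hN := hyq.length_eq ιN (gen_of_span_top q hy)
  constructor
  · intro h
    have hinj : Function.Injective (LocalizedModule.map q.asIdeal.primeCompl φ) :=
      LocalizedModule.map_injective _ φ h
    refine ⟨hinj, ?_⟩
    set F := LocalizedModule.map q.asIdeal.primeCompl φ
    rw [← LinearMap.range_eq_top]
    have h1 : Module.length (Localization.AtPrime q.asIdeal) (LinearMap.range F) = l :=
      ((LinearEquiv.ofInjective F hinj).length_eq.symm.trans hM)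
    by_contra hne
    obtain ⟨_, _⟩ := isFiniteLength_iff_isNoetherian_isArtinian.mp ((Module.length_ne_top_iff
      (M := LocalizedModule q.asIdeal.primeCompl N) (R := Localization.AtPrime q.asIdeal)).mp (by rw [hN]; exact ENat.natCast_ne_top l))
    have h2 := Submodule.length_lt hne
    rw [h1, hN] at h2
    exact lt_irrefl _ h2
  · intro h a b hab
    refine injective_localized ιM (torsionFree_of_span_top q hxq hx) (h.1 ?_)
    change LocalizedModule.map q.asIdeal.primeCompl φ (LocalizedModule.mk a 1) =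
      LocalizedModule.map q.asIdeal.primeCompl φ (LocalizedModule.mk b 1)
    rw [LocalizedModule.map_mk, LocalizedModule.map_mk, hab]

theorem coker_eq_ord (q : PrimeSpectrum R) (hq : ringKrullDim (R ⧸ q.asIdeal) = 1) [Module.Finite R N]
    (φ : M →ₗ[R] N) {l : ℕ} {x : Fin l → M} {y : Fin l → N} (hx : Submodule.span R (Set.range x) = ⊤)
    (hy : Submodule.span R (Set.range y) = ⊤) (hxq : Filtered q.asIdeal x) (hyq : Filtered q.asIdeal y)
    (hinj : Function.Injective φ)
    (ex ey : Adm (Localization.AtPrime q.asIdeal) (LocalizedModule q.asIdeal.primeCompl N) l) (f : q.asIdeal.ResidueField)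
    (hex : ex.1 = fun i => LocalizedModule.mkLinearMap q.asIdeal.primeCompl N (φ (x i)))
    (hey : ey.1 = fun i => LocalizedModule.mkLinearMap q.asIdeal.primeCompl N (y i))
    (hf : (Submodule.Quotient.mk (sym (Localization.AtPrime q.asIdeal) _ ex) :
      DetOfLen (Localization.AtPrime q.asIdeal) (LocalizedModule q.asIdeal.primeCompl N) l) =
        f • Submodule.Quotient.mk (sym (Localization.AtPrime q.asIdeal) _ ey)) :
    ∃ n : ℕ, Module.length R (N ⧸ LinearMap.range φ) = n ∧
      (n : ℤ) = CycAlg.ordFrac (R ⧸ q.asIdeal) q.asIdeal.ResidueField f := by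
  classical
  set ι := LocalizedModule.mkLinearMap q.asIdeal.primeCompl N with hι
  have hl := hyq.length_eq ι (gen_of_span_top q hy)
  have hι0 := injective_localized ι (torsionFree_of_span_top q hyq hy)
  let W : Submodule R (LocalizedModule q.asIdeal.primeCompl N) := LinearMap.range ι
  have hWfg : W.FG := by
    rw [show W = (⊤ : Submodule R N).map ι from (Submodule.map_top _).symm]
    exact Submodule.FG.map _ Module.Finite.fg_top
  have hW : ∀ v, ∃ u ∉ q.asIdeal, u • v ∈ W := fun v ↦ by
    obtain ⟨⟨m, s⟩, hm⟩ := IsLocalizedModule.surj q.asIdeal.primeCompl ι v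
    exact ⟨s, s.2, m, hm.symm⟩
  have hφx : Filtered q.asIdeal (fun i ↦ φ (x i)) := fun i r ↦ by
    have e : spanBefore R N (fun i ↦ φ (x i)) i = (spanBefore R M x i).map φ := by
      unfold spanBefore
      rw [Submodule.map_span, ← Set.image_comp]
      rfl
    rw [e, ← map_smul, ← hxq i r]
    exact ⟨fun ⟨m, hm, hm'⟩ ↦ hinj hm' ▸ hm, fun h ↦ ⟨_, h, rfl⟩⟩
  have hst : ∀ z : Fin l → N, Filtered q.asIdeal z →
      Good (P := q.asIdeal) W (fun i ↦ ι (z i)) (fun _ ↦ 1) := by
    intro z hz
    refine ⟨fun _ ↦ q.2.one_notMem, fun i ↦ ⟨z i, (one_smul _ _).symm⟩, fun i r hr ↦ ?_⟩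
    have e : spanBefore R (LocalizedModule q.asIdeal.primeCompl N) (fun j ↦ (1 : R) • ι (z j)) i =
        (spanBefore R N z i).map ι := by
      unfold spanBefore
      rw [Submodule.map_span, ← Set.image_comp]
      simp only [one_smul]
      rfl
    rw [e, one_smul, ← map_smul]
    exact ⟨_, (hz i r).mpr hr, rfl⟩
  have hdist : ∀ z : Fin l → N, index (P := q.asIdeal) W (fun i ↦ ι (z i)) (fun _ ↦ 1) =
      ((rlen W ((Submodule.span R (Set.range z)).map ι)).toNat : ℤ) := by
    intro z
    haveI := krullDimLE_quot hq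
    simp only [index, map_one, LatticeLib24.ordFrac_one, Finset.sum_const_zero, sub_zero]
    rw [spanBefore_top, Submodule.map_span, ← Set.range_comp]
    simp only [one_smul]
    rfl
  have hgood1 := hst _ hφx
  have hgood2 := hst _ hyq
  obtain ⟨-, hmain⟩ := index_symbol hq W hWfg hW hl ex ey (hex ▸ hφx.strict_image ι) (hey ▸ hyq.strict_image ι) f hf
    (fun _ ↦ 1) (fun _ ↦ 1) (hex ▸ hgood1) (hey ▸ hgood2)
  rw [hex, hey, hdist y, hdist (fun i ↦ φ (x i)), hy] at hmain
  have hrange : Submodule.span R (Set.range fun i ↦ φ (x i)) = LinearMap.range φ := by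
    rw [LinearMap.range_eq_map, ← hx, Submodule.map_span, ← Set.range_comp]
    rfl
  rw [hrange] at hmain
  let T : N →ₗ[R] ↥W ⧸ ((LinearMap.range φ).map ι).submoduleOf W :=
    Submodule.mkQ _ ∘ₗ ι.rangeRestrict
  have hT : Function.Surjective T := (Submodule.mkQ_surjective _).comp ι.surjective_rangeRestrict
  have hTk : LinearMap.ker T = LinearMap.range φ := by
    ext n
    change (Submodule.Quotient.mk (ι.rangeRestrict n) : ↥W ⧸ _) = 0 ↔ _
    rw [Submodule.Quotient.mk_eq_zero]
    exact ⟨fun ⟨m, hm, e⟩ ↦ hι0 e ▸ hm, fun h ↦ ⟨n, h, rfl⟩⟩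
  have hlen : Module.length R (N ⧸ LinearMap.range φ) = rlen W ((LinearMap.range φ).map ι) :=
    ((Submodule.quotEquivOfEq _ _ hTk.symm).trans (LinearMap.quotKerEquivOfSurjective T hT)).length_eq
  have hself : (rlen W ((⊤ : Submodule R N).map ι)).toNat = 0 := by
    rw [Submodule.map_top]
    haveI : Subsingleton (↥W ⧸ (LinearMap.range ι).submoduleOf W) :=
      Submodule.Quotient.subsingleton_iff.mpr (Submodule.submoduleOf_self _)
    rw [rlen, Module.length_eq_zero]
    rfl
  rw [hself, Nat.cast_zero, sub_zero] at hmain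
  have hfin : rlen W ((LinearMap.range φ).map ι) < ⊤ := by
    have h := (rlen_top_span hq W hWfg ⟨_, hφx.admissible_image ι⟩ (by
      rw [span_eq_top_of_strict hl ⟨_, hφx.admissible_image ι⟩ (hφx.strict_image ι)]
      exact fun _ _ ↦ Submodule.mem_top) (fun _ ↦ 1) hgood1).2
    have e : spanBefore R (LocalizedModule q.asIdeal.primeCompl N) (fun j ↦ (1 : R) • ι (φ (x j))) l =
        (LinearMap.range φ).map ι := by
      rw [spanBefore_top, ← hrange, Submodule.map_span, ← Set.range_comp]
      simp only [one_smul]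
      rfl
    simp only at h
    rwa [e] at h
  exact ⟨(rlen W ((LinearMap.range φ).map ι)).toNat, by rw [hlen, ENat.coe_toNat hfin.ne], hmain⟩

end Coker

end Groth.Agent.CycDetLib
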