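import Mathlib
import Groth.Agent.CycDetLib.Periodic
import Groth.Agent.CycDetLib.Gamma
import Groth.Agent.CycDetLib.Line

/-!
# Periodic complexes over one-dimensional local rings
-/

set_option autoImplicit false

universe u

namespace Groth.Agent.CycDetLib

open CycDet IsLocalRing Groth.Agent.CycAlgLib

section Ratio

variable {A : Type u} [CommRing A] [IsLocalRing A] {V : Type u} [AddCommGroup V] [Module A V]

theorem exists_lift_tuple (θ : V →ₗ[A] V) {na nb l : ℕ} (hl : na + nb = l) (hlen : Module.length A V = l)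
    (K I : Submodule A V) (hK : K = LinearMap.ker θ) (hI : I = LinearMap.range θ)
    (a : Adm A K na) (ha : Strict (R := A) a.1) (hna : Module.length A K = na)
    (b : Adm A I nb) (hb : Strict (R := A) b.1) (hnb : Module.length A I = nb) :
    ∃ e : Adm A V l, Strict (R := A) e.1 ∧ (∀ i : Fin l, (i : ℕ) < na → θ (e.1 i) = 0) ∧
      (∀ i : Fin na, e.1 ⟨i, by omega⟩ = (a.1 i : V)) ∧
      ∀ j : Fin nb, θ (e.1 ⟨na + j, by omega⟩) = (b.1 j : V) := by
  subst hl hK hI
  let g : V →ₗ[A] LinearMap.range θ := θ.rangeRestrict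
  have hfg : LinearMap.range (LinearMap.ker θ).subtype = LinearMap.ker g := by
    rw [Submodule.range_subtype, LinearMap.ker_rangeRestrict]
  choose t ht using fun j ↦ θ.surjective_rangeRestrict (b.1 j)
  have htb : g ∘ t = b.1 := funext ht
  have hatop := span_eq_top_of_strict hna a ha
  have hadm := isAdmissible_cat (LinearMap.ker θ).subtype g hfg a hatop t (by rw [htb]; exact b.2)
  have htop := span_cat (LinearMap.ker θ).subtype g hfg a.1 hatop t (by rw [htb]; exact span_eq_top_of_strict hnb b hb)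
  refine ⟨⟨_, hadm⟩, strict_of_span_eq_top hlen ⟨_, hadm⟩ htop, fun i hi ↦ ?_, fun i ↦ ?_, fun j ↦ ?_⟩
  · change θ (cat (LinearMap.ker θ).subtype a.1 t i) = 0
    rw [show i = Fin.castAdd nb (⟨i, hi⟩ : Fin na) from Fin.ext rfl, cat_left]
    exact (a.1 ⟨i, hi⟩).2
  · change cat (LinearMap.ker θ).subtype a.1 t _ = _
    rw [show (⟨(i : ℕ), _⟩ : Fin (na + nb)) = Fin.castAdd nb i from Fin.ext rfl, cat_left]
    rfl
  · change θ (cat (LinearMap.ker θ).subtype a.1 t _) = _
    rw [show (⟨na + (j : ℕ), _⟩ : Fin (na + nb)) = Fin.natAdd na j from Fin.ext rfl, cat_right]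
    exact congrArg Subtype.val (ht j)

theorem exists_periodicRatio (hV : IsFiniteLength A V) (φ ψ : V →ₗ[A] V)
    (h0 : LinearMap.ker φ = LinearMap.range ψ) (h1 : LinearMap.ker ψ = LinearMap.range φ) :
    ∃ r : ResidueField A, IsPeriodicRatio φ ψ r := by
  obtain ⟨_, _⟩ := isFiniteLength_iff_isNoetherian_isArtinian.mp hV
  have hfin : ∀ N : Submodule A V, ∃ n : ℕ, Module.length A N = n := fun N ↦ by
    obtain ⟨n, hn⟩ := ENat.ne_top_iff_exists.mp (Module.length_ne_top (R := A) (M := N))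
    exact ⟨n, hn.symm⟩
  obtain ⟨na, hna⟩ := hfin (LinearMap.ker φ)
  obtain ⟨nb, hnb⟩ := hfin (LinearMap.ker ψ)
  have hlen : Module.length A V = ((na + nb : ℕ) : ℕ∞) := by
    rw [Module.length_eq_add_of_exact (LinearMap.ker φ).subtype φ.rangeRestrict (Submodule.injective_subtype _)
      φ.surjective_rangeRestrict (LinearMap.exact_iff.mpr (by rw [Submodule.range_subtype, LinearMap.ker_rangeRestrict])),
      ← h1, hna, hnb, Nat.cast_add]
  obtain ⟨a, ha⟩ := exists_strict hna
  obtain ⟨b, hb⟩ := exists_strict hnb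
  obtain ⟨e, he, he0, hea, heb⟩ := exists_lift_tuple φ rfl hlen (LinearMap.ker φ) (LinearMap.ker ψ) rfl h1 a ha hna b hb hnb
  obtain ⟨f, hf, hf0, hfb, hfa⟩ := exists_lift_tuple ψ (Nat.add_comm nb na) hlen (LinearMap.ker ψ) (LinearMap.ker φ) rfl h0
    b hb hnb a ha hna
  obtain ⟨r, hr⟩ := (isDet_mk (R := A) (M := V) (na + nb)).exists_smul' hlen f hf e
  exact ⟨r, na + nb, na, nb, rfl, e, f, hlen, he, hf, he0, fun j ↦ (heb j).trans (hfb j).symm, hf0,
    fun i ↦ (hfa i).trans (hea i).symm, hr⟩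

theorem IsPeriodicRatio.isFiniteLength {φ ψ : V →ₗ[A] V} {r : ResidueField A} (h : IsPeriodicRatio φ ψ r) :
    IsFiniteLength A V := by
  obtain ⟨l, na, nb, -, e, f, hlen, -⟩ := h
  exact Module.length_ne_top_iff.mp (by rw [hlen]; exact ENat.coe_ne_top l)

theorem exists_pow_smul_eq_zero (hV : IsFiniteLength A V) {a : A} (ha : a ∈ maximalIdeal A) :
    ∃ n : ℕ, ∀ v : V, a ^ n • v = 0 := by
  obtain ⟨l, hlen⟩ := ENat.ne_top_iff_exists.mp (Module.length_ne_top_iff.mpr hV)
  obtain ⟨e, he⟩ := exists_strict hlen.symm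
  refine ⟨l, fun v ↦ ?_⟩
  have key : ∀ i ≤ l, ∀ v ∈ spanBefore A V e.1 i, a ^ i • v = 0 := by
    intro i
    induction i with
    | zero => intro _ v hv; rw [spanBefore_zero, Submodule.mem_bot] at hv; simp [hv]
    | succ i IH =>
      intro hi v hv
      rw [spanBefore_succ e.1 ⟨i, hi⟩, Submodule.mem_sup] at hv
      obtain ⟨y, hy, w, hw, rfl⟩ := hv
      obtain ⟨c, rfl⟩ := Submodule.mem_span_singleton.mp hw
      rw [pow_succ, mul_smul, smul_add]
      refine IH (by omega) _ (add_mem (Submodule.smul_mem _ _ hy) ?_)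
      rw [smul_comm]
      exact Submodule.smul_mem _ _ (e.2 ⟨i, hi⟩ a ha)
  exact key l le_rfl v (by rw [spanBefore_top, span_eq_top_of_strict hlen.symm e he]; exact Submodule.mem_top)

end Ratio

section Sum

variable {R : Type u} [CommRing R] [IsNoetherianRing R] [IsLocalRing R]

theorem isLocalizedModule_subtype {M V W : Type u} [AddCommGroup M] [Module R M] [AddCommGroup V] [Module R V]
    [AddCommGroup W] [Module R W] (S T : Submonoid R) (ι : M →ₗ[R] V) [IsLocalizedModule S ι] (κ : M →ₗ[R] W)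
    [IsLocalizedModule T κ] (hST : ∀ m : M, ∃ s ∈ S, s • κ m = 0) :
    IsLocalizedModule S (ι ∘ₗ (LinearMap.ker κ).subtype) where
  map_units := IsLocalizedModule.map_units ι
  surj y := by
    obtain ⟨⟨m, s⟩, hm⟩ := IsLocalizedModule.surj S ι y
    obtain ⟨t, ht, htm⟩ := hST m
    refine ⟨⟨⟨t • m, LinearMap.mem_ker.mpr (by rw [map_smul, htm])⟩, ⟨t, ht⟩ * s⟩, ?_⟩
    change (t * (s : R)) • y = ι (t • m)
    rw [mul_smul, map_smul]
    exact congrArg (t • ·) hm
  exists_of_eq := fun {x₁ x₂} h ↦ by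
    obtain ⟨c, hc⟩ := IsLocalizedModule.exists_of_eq (S := S) (f := ι) h
    exact ⟨c, Subtype.ext hc⟩

theorem herbrand_eq_sum (S : Finset (PrimeSpectrum R)) :
    ∀ (M : Type u) [AddCommGroup M] [Module R M] [Module.Finite R M] (φ ψ : M →ₗ[R] M),
      CycAlg.IsPeriodic φ ψ →
      (∀ p : PrimeSpectrum R, p ∈ Module.support R M → p = closedPoint R ∨ p ∈ S) →
      (∀ P ∈ S, ringKrullDim (R ⧸ P.asIdeal) = 1) →
      ∀ (V : PrimeSpectrum R → Type u) [∀ P, AddCommGroup (V P)] [∀ P, Module R (V P)]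
        [∀ P : PrimeSpectrum R, Module (Localization.AtPrime P.asIdeal) (V P)]
        [∀ P : PrimeSpectrum R, IsScalarTower R (Localization.AtPrime P.asIdeal) (V P)] (ι : ∀ P, M →ₗ[R] V P),
      (∀ P ∈ S, IsLocalizedModule P.asIdeal.primeCompl (ι P)) →
      ∀ (φV ψV : ∀ P : PrimeSpectrum R, V P →ₗ[Localization.AtPrime P.asIdeal] V P),
      (∀ P ∈ S, ∀ m, φV P (ι P m) = ι P (φ m)) → (∀ P ∈ S, ∀ m, ψV P (ι P m) = ι P (ψ m)) →
      ∀ r : (P : PrimeSpectrum R) → P.asIdeal.ResidueField, (∀ P ∈ S, IsPeriodicRatio (φV P) (ψV P) (r P)) →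
      CycAlg.FinCoh R φ ψ ∧ CycAlg.herbrand R φ ψ =
        ∑ P ∈ S, CycAlg.ordFrac (R ⧸ P.asIdeal) P.asIdeal.ResidueField (r P) := by
  classical
  induction S using Finset.induction_on with
  | empty =>
    intro M _ _ _ φ ψ hper hsupp _ V _ _ _ _ ι _ φV ψV _ _ r _
    have hfin : Module.length R M < ⊤ := length_lt_top_of_support_subset fun p hp ↦
      (hsupp p hp).resolve_right (Finset.notMem_empty p)
    obtain ⟨h1, h2⟩ := herbrand_finite_length φ ψ hper hfin hfin
    exact ⟨h1, by rw [h2, sub_self, Finset.sum_empty]⟩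
  | @insert P S hPS IH =>
    intro M _ _ _ φ ψ hper hsupp hdim V _ _ _ _ ι hι φV ψV hφ hψ r hr
    have hPm := Finset.mem_insert_self P S
    haveI := hι P hPm
    let K := LinearMap.ker (ι P)
    have hφK : ∀ x ∈ K, φ x ∈ K := fun x hx ↦ by
      rw [LinearMap.mem_ker] at hx ⊢
      rw [← hφ P hPm, hx, map_zero]
    have hψK : ∀ x ∈ K, ψ x ∈ K := fun x hx ↦ by
      rw [LinearMap.mem_ker] at hx ⊢
      rw [← hψ P hPm, hx, map_zero]
    let W := LinearMap.range (ι P)
    have hφW : ∀ v ∈ W, (φV P).restrictScalars R v ∈ W := by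
      rintro _ ⟨m, rfl⟩; exact ⟨φ m, (hφ P hPm m).symm⟩
    have hψW : ∀ v ∈ W, (ψV P).restrictScalars R v ∈ W := by
      rintro _ ⟨m, rfl⟩; exact ⟨ψ m, (hψ P hPm m).symm⟩
    have hspan : ∀ v : V P, ∃ u ∉ P.asIdeal, u • v ∈ W := fun v ↦ by
      obtain ⟨⟨m, s⟩, hm⟩ := IsLocalizedModule.surj P.asIdeal.primeCompl (ι P) v
      exact ⟨s, s.2, m, hm.symm⟩
    have hzero : ∀ α β : V P →ₗ[Localization.AtPrime P.asIdeal] V P, ∀ a b : M →ₗ[R] M,
        (∀ m, α (ι P m) = ι P (a m)) → (∀ m, β (ι P m) = ι P (b m)) → a ∘ₗ b = 0 → α ∘ₗ β = 0 := by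
      intro α β a b ha hb hab
      refine LinearMap.ext fun v ↦ ?_
      obtain ⟨u, hu, m, hm⟩ := hspan v
      have h1 : u • (α ∘ₗ β) v = 0 := by
        rw [← IsScalarTower.algebraMap_smul (Localization.AtPrime P.asIdeal) u, ← map_smul,
          IsScalarTower.algebraMap_smul, ← hm, LinearMap.comp_apply, hb, ha, ← LinearMap.comp_apply a, hab,
          LinearMap.zero_apply, map_zero]
      rw [← IsScalarTower.algebraMap_smul (Localization.AtPrime P.asIdeal) u] at h1
      exact (isUnit_algebraMap hu).smul_eq_zero.mp h1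
    obtain ⟨-, hfinW, hW⟩ := herbrand_eq_ord (hdim P hPm) W
      (by rw [show W = (⊤ : Submodule R M).map (ι P) from (Submodule.map_top _).symm]
          exact Submodule.FG.map _ Module.Finite.fg_top)
      hspan (φV P) (ψV P) (hzero _ _ φ ψ (hφ P hPm) (hψ P hPm) hper.1) (hzero _ _ ψ φ (hψ P hPm) (hφ P hPm) hper.2)
      hφW hψW (r P) (hr P hPm)
    -- other primes do not meet the image
    have hST : ∀ Q ∈ S, ∀ m : M, ∃ s ∈ Q.asIdeal.primeCompl, s • ι P m = 0 := by
      intro Q hQ m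
      by_cases hle : P.asIdeal ≤ Q.asIdeal
      · exfalso
        haveI := krullDimLE_quot (hdim P hPm)
        have hne : Q.asIdeal.map (Ideal.Quotient.mk P.asIdeal) ≠ ⊥ := fun hb ↦ hPS (by
          rw [Ideal.map_eq_bot_iff_le_ker, Ideal.mk_ker] at hb
          rwa [PrimeSpectrum.ext (le_antisymm hle hb) (x := P) (y := Q)])
        haveI : (Q.asIdeal.map (Ideal.Quotient.mk P.asIdeal)).IsPrime :=
          Ideal.map_isPrime_of_surjective Ideal.Quotient.mk_surjective (by rwa [Ideal.mk_ker])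
        have hmax := Ring.krullDimLE_one_iff_of_noZeroDivisors.mp
          (inferInstance : Ring.KrullDimLE 1 (R ⧸ P.asIdeal)) _ hne inferInstance
        have hmax' := Ideal.comap_isMaximal_of_surjective (Ideal.Quotient.mk P.asIdeal) Ideal.Quotient.mk_surjective
          (K := Q.asIdeal.map (Ideal.Quotient.mk P.asIdeal))
        rw [Ideal.comap_map_of_surjective _ Ideal.Quotient.mk_surjective, ← RingHom.ker_eq_comap_bot, Ideal.mk_ker,
          sup_eq_left.mpr hle] at hmax'
        have h1 := hdim Q (Finset.mem_insert_of_mem hQ)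
        rw [ringKrullDim_eq_zero_of_isField ((Ideal.Quotient.maximal_ideal_iff_isField_quotient _).mp hmax')] at h1
        exact zero_ne_one h1
      · obtain ⟨a, haP, haQ⟩ := Set.not_subset.mp hle
        obtain ⟨n, hn⟩ := exists_pow_smul_eq_zero (hr P hPm).isFiniteLength
          ((IsLocalization.AtPrime.to_map_mem_maximal_iff (Localization.AtPrime P.asIdeal) P.asIdeal a).mpr haP)
        refine ⟨a ^ n, fun h ↦ haQ (Q.isPrime.mem_of_pow_mem n h), ?_⟩
        rw [← IsScalarTower.algebraMap_smul (Localization.AtPrime P.asIdeal) (a ^ n), map_pow]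
        exact hn _
    have hsuppK : ∀ p : PrimeSpectrum R, p ∈ Module.support R K → p = closedPoint R ∨ p ∈ S := by
      intro p hp
      obtain ⟨m, hm⟩ := Module.mem_support_iff'.mp hp
      rcases hsupp p (Module.mem_support_iff'.mpr ⟨m.1, fun a ha h ↦ hm a ha (Subtype.ext h)⟩) with h | h
      · exact Or.inl h
      · rcases Finset.mem_insert.mp h with rfl | h
        · obtain ⟨c, hc⟩ := (IsLocalizedModule.eq_iff_exists p.asIdeal.primeCompl (ι p) (x₁ := m.1) (x₂ := 0)).mp
            (by rw [map_zero]; exact m.2)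
          rw [smul_zero] at hc
          exact absurd (Subtype.ext hc) (hm c c.2)
        · exact Or.inr h
    haveI : Module.Finite R K := inferInstance
    obtain ⟨hfinK, hK⟩ := IH K (φ.restrict hφK) (ψ.restrict hψK)
      ⟨LinearMap.ext fun x ↦ Subtype.ext (LinearMap.congr_fun hper.1 x.1),
        LinearMap.ext fun x ↦ Subtype.ext (LinearMap.congr_fun hper.2 x.1)⟩
      hsuppK (fun Q hQ ↦ hdim Q (Finset.mem_insert_of_mem hQ)) V (fun Q ↦ ι Q ∘ₗ K.subtype)
      (fun Q hQ ↦ by
        haveI := hι Q (Finset.mem_insert_of_mem hQ)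
        exact isLocalizedModule_subtype Q.asIdeal.primeCompl P.asIdeal.primeCompl (ι Q) (ι P) (hST Q hQ))
      φV ψV (fun Q hQ m ↦ hφ Q (Finset.mem_insert_of_mem hQ) m.1)
      (fun Q hQ m ↦ hψ Q (Finset.mem_insert_of_mem hQ) m.1) r (fun Q hQ ↦ hr Q (Finset.mem_insert_of_mem hQ))
    have hWper : CycAlg.IsPeriodic (((φV P).restrictScalars R).restrict hφW) (((ψV P).restrictScalars R).restrict hψW) := by
      constructor <;> refine LinearMap.ext fun x ↦ Subtype.ext ?_ <;> obtain ⟨_, m, rfl⟩ := x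
      · exact (congrArg (φV P) (hψ P hPm m)).trans ((hφ P hPm _).trans
          ((congrArg (ι P) (LinearMap.congr_fun hper.1 m)).trans (map_zero _)))
      · exact (congrArg (ψV P) (hφ P hPm m)).trans ((hψ P hPm _).trans
          ((congrArg (ι P) (LinearMap.congr_fun hper.2 m)).trans (map_zero _)))
    have hKper : CycAlg.IsPeriodic (φ.restrict hφK) (ψ.restrict hψK) :=
      ⟨LinearMap.ext fun x ↦ Subtype.ext (LinearMap.congr_fun hper.1 x.1),
        LinearMap.ext fun x ↦ Subtype.ext (LinearMap.congr_fun hper.2 x.1)⟩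
    obtain ⟨-, hfinM, -, hM⟩ := herbrand_shortExact (φ.restrict hφK) (ψ.restrict hψK) φ ψ
      (((φV P).restrictScalars R).restrict hφW) (((ψV P).restrictScalars R).restrict hψW)
      K.subtype K.subtype (ι P).rangeRestrict (ι P).rangeRestrict hKper hper hWper rfl rfl
      (LinearMap.ext fun x ↦ Subtype.ext (hφ P hPm x)) (LinearMap.ext fun x ↦ Subtype.ext (hψ P hPm x))
      (Submodule.injective_subtype _) (Submodule.injective_subtype _) (ι P).surjective_rangeRestrict
      (ι P).surjective_rangeRestrict (by rw [Submodule.range_subtype, LinearMap.ker_rangeRestrict])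
      (by rw [Submodule.range_subtype, LinearMap.ker_rangeRestrict]) (Or.inr (Or.inl ⟨hfinK, hfinW⟩))
    exact ⟨hfinM, by rw [hM, hK, hW, Finset.sum_insert hPS, add_comm]⟩

end Sum

end Groth.Agent.CycDetLib
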