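import Mathlib
import Groth.Agent.CycDetLib.Periodic
import Groth.Agent.CycDetLib.Exists
import Groth.Prelude.Def_Tame

/-!
# Periodic ratios along ring isomorphisms, and order functions of fraction fields
-/

set_option autoImplicit false

universe u

namespace Groth.Agent.CycDetLib

open CycDet IsLocalRing

section Transport

variable {A A' : Type u} [CommRing A] [IsLocalRing A] [CommRing A'] [IsLocalRing A'] {V : Type u}
  [AddCommGroup V] [Module A V] [Module A' V]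

theorem mem_span_iff_of_equiv (σ : A ≃+* A') (hσ : ∀ (a : A) (v : V), σ a • v = a • v) (s : Set V) (v : V) :
    v ∈ Submodule.span A' s ↔ v ∈ Submodule.span A s := by
  letI : Algebra A A' := σ.toRingHom.toAlgebra
  haveI : IsScalarTower A A' V := IsScalarTower.of_algebraMap_smul hσ
  rw [← Submodule.restrictScalars_span A A' σ.surjective s, Submodule.restrictScalars_mem]

theorem spanBefore_iff_of_equiv (σ : A ≃+* A') (hσ : ∀ (a : A) (v : V), σ a • v = a • v) {l : ℕ} (e : Fin l → V)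
    (i : ℕ) (v : V) : v ∈ spanBefore A' V e i ↔ v ∈ spanBefore A V e i :=
  mem_span_iff_of_equiv σ hσ _ v

theorem isAdmissible_of_equiv (σ : A ≃+* A') (hσ : ∀ (a : A) (v : V), σ a • v = a • v) {l : ℕ} {e : Fin l → V}
    (he : IsAdmissible A V e) : IsAdmissible A' V e := by
  intro i r hr
  rw [spanBefore_iff_of_equiv σ hσ]
  obtain ⟨a, rfl⟩ := σ.surjective r
  rw [hσ]
  refine he i a ?_
  rw [mem_maximalIdeal, mem_nonunits_iff] at hr ⊢
  exact fun h ↦ hr (h.map σ)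

/-- transport of admissible tuples -/
def admMap (σ : A ≃+* A') (hσ : ∀ (a : A) (v : V), σ a • v = a • v) {l : ℕ} (e : Adm A V l) : Adm A' V l :=
  ⟨e.1, isAdmissible_of_equiv σ hσ e.2⟩

theorem IsPeriodicRatio.congr (σ : A ≃+* A') (hσ : ∀ (a : A) (v : V), σ a • v = a • v) {φ ψ : V →ₗ[A] V}
    {φ' ψ' : V →ₗ[A'] V} (hφ : ∀ v, φ' v = φ v) (hψ : ∀ v, ψ' v = ψ v) {r : ResidueField A}
    (h : IsPeriodicRatio φ ψ r) : IsPeriodicRatio φ' ψ' (ResidueField.mapEquiv σ r) := by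
  obtain ⟨l, na, nb, hl, e, f, hlen, he, hf, he0, he1, hf0, hf1, hr⟩ := h
  letI : Algebra A A' := σ.toRingHom.toAlgebra
  haveI : IsScalarTower A A' V := IsScalarTower.of_algebraMap_smul hσ
  letI : Module (ResidueField A) (DetOfLen A' V l) :=
    Module.compHom _ (ResidueField.mapEquiv σ).toRingHom
  have hdet : IsDet (N := DetOfLen A' V l)
      (fun e : Adm A V l ↦ (Submodule.Quotient.mk (sym A' V (admMap σ hσ e)) : DetOfLen A' V l)) := by
    constructor
    · intro e a ha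
      exact (isDet_mk (R := A') l).zero (admMap σ hσ e) a ((spanBefore_iff_of_equiv σ hσ e.1 a _).mpr ha)
    · intro e e' a c h1 h2
      refine (isDet_mk (R := A') l).scale (admMap σ hσ e) (admMap σ hσ e') a (Units.map σ.toMonoidHom c) h1 ?_
      rw [← hσ] at h2
      exact (spanBefore_iff_of_equiv σ hσ e.1 a _).mpr h2
    · intro e e' a b h1 h2 h3
      refine (isDet_mk (R := A') l).swap (admMap σ hσ e) (admMap σ hσ e') a b h1 (fun r hr ↦ ?_) h3
      obtain ⟨x, rfl⟩ := σ.surjective r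
      rw [hσ]
      refine (spanBefore_iff_of_equiv σ hσ e.1 b _).mpr (h2 x ?_)
      rw [mem_maximalIdeal, mem_nonunits_iff] at hr ⊢
      exact fun h ↦ hr (h.map σ)
  refine ⟨l, na, nb, hl, admMap σ hσ e, admMap σ hσ f, ?_, ?_, ?_, fun i hi ↦ (hφ _).trans (he0 i hi),
    fun j ↦ (hφ _).trans (he1 j), fun i hi ↦ (hψ _).trans (hf0 i hi), fun i ↦ (hψ _).trans (hf1 i), ?_⟩
  · rw [← hlen]
    exact (Module.length_eq_of_surjective (S := A) (M := V) (R := A') σ.surjective).symm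
  · exact fun i hi ↦ he i ((spanBefore_iff_of_equiv σ hσ e.1 i _).mp hi)
  · exact fun i hi ↦ hf i ((spanBefore_iff_of_equiv σ hσ f.1 i _).mp hi)
  · have := congrArg hdet.lift hr
    rw [map_smul, hdet.lift_mk, hdet.lift_mk] at this
    exact this

theorem IsPeriodicRatio.ne_zero {φ ψ : V →ₗ[A] V} {r : ResidueField A} (h : IsPeriodicRatio φ ψ r) : r ≠ 0 := by
  obtain ⟨l, na, nb, -, e, f, hlen, he, -, -, -, -, -, hr⟩ := h
  intro h0
  rw [h0, zero_smul] at hr
  exact exists_linearMap_ne_zero hlen e (span_eq_top_of_strict hlen e he) hr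

end Transport

section OrdFrac

variable {R : Type u} [CommRing R]

theorem ordFrac_congr {K L : Type u} [Field K] [Field L] {P Q : Ideal R} (hPQ : P = Q) [Algebra (R ⧸ P) K]
    [Algebra (R ⧸ Q) L] (σ : K ≃+* L)
    (hσ : ∀ a : R, σ (algebraMap (R ⧸ P) K (Ideal.Quotient.mk P a)) = algebraMap (R ⧸ Q) L (Ideal.Quotient.mk Q a))
    (r : K) : CycAlg.ordFrac (R ⧸ P) K r = CycAlg.ordFrac (R ⧸ Q) L (σ r) := by
  subst hPQ
  have e : ∀ a : R ⧸ P, σ (algebraMap (R ⧸ P) K a) = algebraMap (R ⧸ P) L a := fun a ↦ by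
    obtain ⟨b, rfl⟩ := Ideal.Quotient.mk_surjective a
    exact hσ b
  let τ : K ≃ₐ[R ⧸ P] L := AlgEquiv.ofRingEquiv (f := σ) e
  by_cases h : IsNoetherianRing (R ⧸ P) ∧ Ring.KrullDimLE 1 (R ⧸ P) ∧ Nontrivial (R ⧸ P) ∧ IsFractionRing (R ⧸ P) K
  · obtain ⟨h1, h2, h3, h4⟩ := h
    haveI h4' : IsFractionRing (R ⧸ P) L := IsLocalization.isLocalization_of_algEquiv _ τ
    simp only [CycAlg.ordFrac]
    rw [dif_pos ⟨h1, h2, h3, h4⟩, dif_pos ⟨h1, h2, h3, h4'⟩]
    congr 1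
    obtain ⟨⟨a, s⟩, hs⟩ := IsLocalization.surj (nonZeroDivisors (R ⧸ P)) r
    change r * algebraMap (R ⧸ P) K s.1 = algebraMap (R ⧸ P) K a at hs
    have hs' : σ r * algebraMap (R ⧸ P) L s.1 = algebraMap (R ⧸ P) L a := by rw [← e, ← map_mul, hs, e]
    rcases eq_or_ne r 0 with rfl | hr
    · rw [map_zero, map_zero, map_zero]
    · have hs0 : s.1 ∈ nonZeroDivisors (R ⧸ P) := s.2
      have hKs : algebraMap (R ⧸ P) K s.1 ≠ 0 := (IsLocalization.map_units K s).ne_zero
      have hLs : algebraMap (R ⧸ P) L s.1 ≠ 0 := (IsLocalization.map_units L s).ne_zero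
      have ha : a ∈ nonZeroDivisors (R ⧸ P) := by
        haveI : IsDomain (R ⧸ P) := (IsFractionRing.injective (R ⧸ P) K).isDomain
        refine mem_nonZeroDivisors_iff_ne_zero.mpr fun h0 ↦ mul_ne_zero hr hKs ?_
        rw [hs, h0, map_zero]
      rw [eq_div_of_mul_eq hKs hs, map_div₀ σ, e, e, map_div₀, map_div₀,
        Ring.ordFrac_eq_ord _ (nonZeroDivisors.ne_zero ha), Ring.ordFrac_eq_ord _ (nonZeroDivisors.ne_zero hs0),
        Ring.ordFrac_eq_ord _ (nonZeroDivisors.ne_zero ha), Ring.ordFrac_eq_ord _ (nonZeroDivisors.ne_zero hs0)]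
  · have h' : ¬ (IsNoetherianRing (R ⧸ P) ∧ Ring.KrullDimLE 1 (R ⧸ P) ∧ Nontrivial (R ⧸ P) ∧
        IsFractionRing (R ⧸ P) L) := fun ⟨h1, h2, h3, h4⟩ ↦
      h ⟨h1, h2, h3, IsLocalization.isLocalization_of_algEquiv _ τ.symm⟩
    simp only [CycAlg.ordFrac]
    rw [dif_neg h, dif_neg h']

end OrdFrac

end Groth.Agent.CycDetLib
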